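/-
The first infinitesimal neighbourhood of a point with values in an affine thickening (helper33).
-/
import Mathlib.AlgebraicGeometry.Morphisms.Immersion
import Mathlib.AlgebraicGeometry.Morphisms.ClosedImmersion
import Mathlib.AlgebraicGeometry.Morphisms.Affine
import Mathlib.AlgebraicGeometry.IdealSheaf.Functorial

set_option autoImplicit false
universe u
open CategoryTheory CategoryTheory.Limits AlgebraicGeometry TopologicalSpace Opposite

namespace Groth.Agent.InfLift.FirstNbhd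

theorem eq_zero_of_locally {T : Scheme.{u}} (V : T.Opens) (x : Γ(T, V))
    (h : ∀ p ∈ V, ∃ (U : T.Opens) (hU : U ≤ V), p ∈ U ∧ T.presheaf.map (homOfLE hU).op x = 0) :
    x = 0 := by
  refine TopCat.Presheaf.section_ext T.sheaf V _ _ fun p hp ↦ ?_
  obtain ⟨U, hU, hpU, hx⟩ := h p hp
  change T.presheaf.germ V p hp x = T.presheaf.germ V p hp 0
  rw [map_zero, ← TopCat.Presheaf.germ_res_apply T.presheaf (homOfLE hU) p hpU, hx, map_zero]

/-- Sections killed by a square zero closed immersion into an affine scheme multiply to zero on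
every open. -/
theorem mul_eq_zero_of_app_eq_zero {T₀ T : Scheme.{u}} [IsAffine T] (t : T₀ ⟶ T) [IsClosedImmersion t]
    (ht : RingHom.ker t.appTop.hom ^ 2 = ⊥) (V : T.Opens) (x y : Γ(T, V))
    (hx : t.app V x = 0) (hy : t.app V y = 0) : x * y = 0 := by
  refine eq_zero_of_locally V _ fun p hp ↦ ?_
  obtain ⟨_, ⟨_, ⟨g, rfl⟩, rfl⟩, hpg, hgV⟩ :=
    (isBasis_basicOpen T).exists_subset_of_mem_open hp V.isOpen
  refine ⟨T.basicOpen g, hgV, hpg, ?_⟩
  let U : T.affineOpens := ⟨T.basicOpen g, (isAffineOpen_top T).basicOpen g⟩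
  have hker : t.ker.ideal U * t.ker.ideal U = ⊥ := by
    have h := t.ker.map_ideal_basicOpen ⟨⊤, isAffineOpen_top T⟩ g
    change Ideal.map _ _ = t.ker.ideal U at h
    rw [← h, ← Ideal.map_mul, ← pow_two, Scheme.Hom.ker_apply]
    change Ideal.map _ (RingHom.ker t.appTop.hom ^ 2) = ⊥
    rw [ht, Ideal.map_bot]
  have hres : ∀ z : Γ(T, V), t.app V z = 0 →
      T.presheaf.map (homOfLE (show T.basicOpen g ≤ V from hgV)).op z ∈ t.ker.ideal U := by
    intro z hz
    rw [Scheme.Hom.ker_apply, RingHom.mem_ker]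
    change t.app (T.basicOpen g) (T.presheaf.map _ z) = 0
    rw [← CommRingCat.comp_apply, t.naturality, CommRingCat.comp_apply, hz, map_zero]
  have := Ideal.mul_mem_mul (hres x hx) (hres y hy)
  rw [hker] at this
  rw [map_mul]
  exact this

theorem ker_appTop_specMap_sq {D D₀ : CommRingCat.{u}} (q : D ⟶ D₀)
    (hJ : RingHom.ker q.hom ^ 2 = ⊥) : RingHom.ker (Spec.map q).appTop.hom ^ 2 = ⊥ := by
  set e := (Scheme.ΓSpecIso D).commRingCatIsoToRingEquiv
  have hle : RingHom.ker (Spec.map q).appTop.hom ≤ (RingHom.ker q.hom).map e.symm.toRingHom := by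
    intro x hx
    have h1 := congr($(congrArg CommRingCat.Hom.hom
      (Scheme.ΓSpecIso_naturality q)) x)
    simp only [CommRingCat.hom_comp, RingHom.comp_apply, RingHom.mem_ker.mp hx, map_zero] at h1
    rw [← e.symm_apply_apply x]
    exact Ideal.mem_map_of_mem _ (RingHom.mem_ker.mpr h1.symm)
  refine eq_bot_iff.mpr ((Ideal.pow_right_mono hle 2).trans ?_)
  rw [← Ideal.map_pow, hJ, Ideal.map_bot]

theorem isHomeomorph_specMap {D D₀ : CommRingCat.{u}} (q : D ⟶ D₀) (hq : Function.Surjective q)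
    (hJ : RingHom.ker q.hom ^ 2 = ⊥) : IsHomeomorph (Spec.map q) := by
  have : IsClosedImmersion (Spec.map q) := IsClosedImmersion.spec_of_surjective _ hq
  refine isHomeomorph_iff_isEmbedding_surjective.mpr
    ⟨(Spec.map q).isClosedEmbedding.isEmbedding, fun p ↦ ?_⟩
  have hp : p ∈ Set.range (PrimeSpectrum.comap q.hom) := by
    rw [range_comap_of_surjective _ q.hom hq]
    intro x hx
    refine p.isPrime.mem_of_pow_mem 2 ?_
    rw [show x ^ 2 = 0 from (Submodule.mem_bot D).mp (hJ ▸ Ideal.pow_mem_pow hx 2)]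
    exact zero_mem _
  exact hp

set_option backward.isDefEq.respectTransparency false in
/-- The universal first order thickening of `a₀` mapping to `X` over `Spec A`. -/
theorem exists_firstNbhd {X Y : Scheme.{u}} (f : X ⟶ Y) (A : Type u) [CommRing A] (I : Ideal A)
    (hI : I ^ 2 = ⊥) (a₀ : Spec (CommRingCat.of (A ⧸ I)) ⟶ X) (b : Spec (CommRingCat.of A) ⟶ Y)
    (w : Spec.map (CommRingCat.ofHom (Ideal.Quotient.mk I)) ≫ b = a₀ ≫ f) :
    ∃ (B : CommRingCat.{u}) (φ : CommRingCat.of A ⟶ B) (ρ : B ⟶ CommRingCat.of (A ⧸ I))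
      (z : Spec B ⟶ X),
      φ ≫ ρ = CommRingCat.ofHom (Ideal.Quotient.mk I) ∧ Function.Surjective ρ ∧
      (∀ x y, ρ x = 0 → ρ y = 0 → x * y = 0) ∧ z ≫ f = Spec.map φ ≫ b ∧ Spec.map ρ ≫ z = a₀ ∧
      ∀ (D D₀ : CommRingCat.{u}) (ψ₀ : CommRingCat.of A ⟶ D) (q : D ⟶ D₀),
        Function.Surjective q → RingHom.ker q.hom ^ 2 = ⊥ →
        ∀ (ρ₁ : CommRingCat.of (A ⧸ I) ⟶ D₀),
        CommRingCat.ofHom (Ideal.Quotient.mk I) ≫ ρ₁ = ψ₀ ≫ q →
        ∀ m : Spec D ⟶ X, m ≫ f = Spec.map ψ₀ ≫ b →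
        Spec.map q ≫ m = Spec.map ρ₁ ≫ a₀ →
        ∃! ψ : B ⟶ D, φ ≫ ψ = ψ₀ ∧ ψ ≫ q = ρ ≫ ρ₁ ∧ Spec.map ψ ≫ z = m := by
  let t := Spec.map (CommRingCat.ofHom (Ideal.Quotient.mk I))
  have : IsClosedImmersion t := IsClosedImmersion.spec_of_surjective _ Ideal.Quotient.mk_surjective
  let σ := pullback.lift (f := f) (g := b) a₀ t w.symm
  have : IsImmersion (σ ≫ pullback.snd f b) := by rw [pullback.lift_snd]; infer_instance
  have : IsImmersion σ := IsImmersion.of_comp σ (pullback.snd f b)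
  let W := σ.coborderRange
  let σ' := σ.liftCoborder
  let J := σ'.ker
  let Z := (J * J).subscheme
  let j : Z ⟶ W := (J * J).subschemeι
  have hJle : j.ker ≤ σ'.ker := by
    rw [Scheme.IdealSheafData.ker_subschemeι]
    intro U
    rw [Scheme.IdealSheafData.ideal_mul, Pi.mul_apply]
    exact Ideal.mul_le_left
  let σ₁ := IsClosedImmersion.lift j σ' hJle
  have hσ₁ : σ₁ ≫ j = σ' := IsClosedImmersion.lift_fac _ _ _
  have : IsClosedImmersion (σ₁ ≫ j) := hσ₁ ▸ inferInstance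
  have : IsClosedImmersion σ₁ := IsClosedImmersion.of_comp σ₁ j
  have hσ₁surj : Function.Surjective σ₁ := by
    intro p
    have hp : j p ∈ Set.range σ' := by
      have h1 : j p ∈ ((J * J).support : Set W) := by
        rw [← Scheme.IdealSheafData.range_subschemeι]; exact ⟨p, rfl⟩
      rwa [Scheme.IdealSheafData.support_mul, sup_idem, Scheme.Hom.support_ker,
        σ'.isClosedEmbedding.isClosed_range.closure_eq] at h1
    obtain ⟨q, hq⟩ := hp
    refine ⟨q, j.isClosedEmbedding.injective ?_⟩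
    rw [← Scheme.Hom.comp_apply, hσ₁]
    exact hq
  let q : Z ⟶ Spec (CommRingCat.of A) := j ≫ W.ι ≫ pullback.snd f b
  have hσq : σ₁ ≫ q = t := by
    change σ₁ ≫ j ≫ _ = _
    rw [reassoc_of% hσ₁, σ.liftCoborder_ι_assoc, pullback.lift_snd]
  have hσfst : σ₁ ≫ j ≫ W.ι ≫ pullback.fst f b = a₀ := by
    rw [reassoc_of% hσ₁, σ.liftCoborder_ι_assoc, pullback.lift_fst]
  have hkerI : RingHom.ker (CommRingCat.ofHom (Ideal.Quotient.mk I)).hom ^ 2 = ⊥ := by
    rw [CommRingCat.hom_ofHom, Ideal.mk_ker, hI]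
  have ht := isHomeomorph_specMap (CommRingCat.ofHom (Ideal.Quotient.mk I))
    Ideal.Quotient.mk_surjective hkerI
  have hqinj : Function.Injective q := by
    intro p p' hpp
    obtain ⟨s, rfl⟩ := hσ₁surj p
    obtain ⟨s', rfl⟩ := hσ₁surj p'
    rw [← Scheme.Hom.comp_apply, ← Scheme.Hom.comp_apply, hσq] at hpp
    rw [ht.injective hpp]
  have : IsAffineHom q := by
    have hcov : ∀ p : ↥(Spec (CommRingCat.of A)), ∃ U : (Spec (CommRingCat.of A)).Opens,
        p ∈ U ∧ IsAffineOpen U ∧ IsAffineOpen (q ⁻¹ᵁ U) := by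
      intro p
      obtain ⟨s, rfl⟩ := ht.surjective p
      obtain ⟨V, hV, hsV, -⟩ := exists_isAffineOpen_mem_and_subset (X := Z) (x := σ₁ s) (U := ⊤) trivial
      have hopen : IsOpen (q '' (V : Set Z)) := by
        have : q '' (V : Set Z) = t '' (σ₁ ⁻¹' (V : Set Z)) := by
          ext y
          constructor
          · rintro ⟨v, hv, rfl⟩
            obtain ⟨s', rfl⟩ := hσ₁surj v
            exact ⟨s', hv, by rw [← hσq]; rfl⟩
          · rintro ⟨s', hs', rfl⟩
            exact ⟨σ₁ s', hs', by rw [← hσq]; rfl⟩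
        rw [this]
        exact ht.isOpenMap _ (V.isOpen.preimage σ₁.continuous)
      obtain ⟨_, ⟨_, ⟨g, rfl⟩, rfl⟩, hpg, hgV⟩ := (isBasis_basicOpen (Spec (CommRingCat.of A))).exists_subset_of_mem_open
        (show t s ∈ q '' (V : Set Z) from ⟨σ₁ s, hsV, by rw [← hσq]; rfl⟩) hopen
      refine ⟨(Spec (CommRingCat.of A)).basicOpen g, hpg, (isAffineOpen_top _).basicOpen g, ?_⟩
      have hpre : q ⁻¹ᵁ (Spec (CommRingCat.of A)).basicOpen g ≤ V := fun v hv ↦ by
        obtain ⟨v', hv', hvv⟩ := hgV hv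
        exact hqinj hvv ▸ hv'
      have hb : q ⁻¹ᵁ (Spec (CommRingCat.of A)).basicOpen g =
          Z.basicOpen (q.appLE ⊤ V le_top g) := by
        rw [Scheme.basicOpen_appLE, inf_eq_right.mpr hpre]
      exact hb ▸ hV.basicOpen _
    choose U hU hUa hUpre using hcov
    refine isAffineHom_of_forall_exists_isAffineOpen q fun p ↦ ?_
    exact ⟨U p, hU p, hUa p, hUpre p⟩
  have : IsAffine Z := isAffine_of_isAffineHom q
  let φ : CommRingCat.of A ⟶ Γ(Z, ⊤) := (Scheme.ΓSpecIso _).inv ≫ q.appTop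
  let ρ : Γ(Z, ⊤) ⟶ CommRingCat.of (A ⧸ I) := σ₁.appTop ≫ (Scheme.ΓSpecIso _).hom
  let z : Spec Γ(Z, ⊤) ⟶ X := Z.isoSpec.inv ≫ j ≫ W.ι ≫ pullback.fst f b
  have hzφ : Spec.map φ = Z.isoSpec.inv ≫ q := by
    rw [Spec.map_comp, ← cancel_epi Z.isoSpec.hom, Iso.hom_inv_id_assoc,
      Scheme.isoSpec_hom_naturality_assoc, ← Scheme.isoSpec_Spec_inv, Iso.hom_inv_id, Category.comp_id]
  have hzρ : Spec.map ρ = σ₁ ≫ Z.isoSpec.hom := by
    rw [Spec.map_comp, ← Scheme.isoSpec_Spec_hom, Scheme.isoSpec_hom_naturality]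
  have hρσ : φ ≫ ρ = CommRingCat.ofHom (Ideal.Quotient.mk I) := by
    refine Spec.map_injective ?_
    rw [Spec.map_comp, hzφ, hzρ, Category.assoc, Iso.hom_inv_id_assoc, hσq]
  refine ⟨Γ(Z, ⊤), φ, ρ, z, hρσ, ?_, ?_, ?_, ?_, ?_⟩
  · exact ((Scheme.ΓSpecIso (CommRingCat.of (A ⧸ I))).commRingCatIsoToRingEquiv.surjective).comp
      (σ₁.app_surjective ⊤ (isAffineOpen_top Z))
  · have hker : ∀ x : Γ(Z, ⊤), ρ x = 0 → σ₁.appTop x = 0 := fun x hx ↦
      (Scheme.ΓSpecIso (CommRingCat.of (A ⧸ I))).commRingCatIsoToRingEquiv.injective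
        (hx.trans (map_zero _).symm)
    intro x y hx hy
    refine eq_zero_of_locally ⊤ _ fun p _ ↦ ?_
    obtain ⟨U, hU, hpU, -⟩ := exists_isAffineOpen_mem_and_subset (X := W.toScheme) (x := j p) (U := ⊤) trivial
    refine ⟨j ⁻¹ᵁ U, le_top, hpU, ?_⟩
    have hlift : ∀ x : Γ(Z, ⊤), σ₁.appTop x = 0 → ∃ x' : Γ(W.toScheme, U),
        x' ∈ J.ideal ⟨U, hU⟩ ∧ j.app U x' = Z.presheaf.map (homOfLE le_top).op x := by
      intro x hx0
      obtain ⟨x', hx'⟩ := j.app_surjective U hU (Z.presheaf.map (homOfLE le_top).op x)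
      refine ⟨x', ?_, hx'⟩
      rw [Scheme.Hom.ker_apply, RingHom.mem_ker]
      have h1 : (σ₁ ≫ j).app U x' = 0 := by
        rw [Scheme.Hom.comp_app, CommRingCat.comp_apply, hx', ← CommRingCat.comp_apply,
          σ₁.naturality, CommRingCat.comp_apply]
        change (Spec _).presheaf.map _ (σ₁.appTop x) = 0
        rw [hx0, map_zero]
      have h2 := congr($(Scheme.Hom.congr_app hσ₁.symm U) x')
      rw [CommRingCat.comp_apply, h1, map_zero] at h2
      exact h2
    obtain ⟨x', hxJ, hx'⟩ := hlift x (hker x hx)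
    obtain ⟨y', hyJ, hy'⟩ := hlift y (hker y hy)
    rw [map_mul, ← hx', ← hy', ← map_mul]
    have : x' * y' ∈ (J * J).ideal ⟨U, hU⟩ := by
      rw [Scheme.IdealSheafData.ideal_mul]
      exact Ideal.mul_mem_mul hxJ hyJ
    rw [← Scheme.IdealSheafData.ker_subschemeι_app] at this
    exact this
  · simp only [z, Category.assoc]
    rw [pullback.condition, hzφ, Category.assoc, Category.assoc]
    rfl
  · rw [hzρ]
    simp only [z, Category.assoc, Iso.hom_inv_id_assoc]
    exact hσfst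
  intro D D₀ ψ₀ q₁ hq₁ hJ₁ ρ₁ hcomp m hm hm₀
  let t' := Spec.map q₁
  have : IsClosedImmersion t' := IsClosedImmersion.spec_of_surjective _ hq₁
  let mP := pullback.lift (f := f) (g := b) m (Spec.map ψ₀) hm
  have hmP : t' ≫ mP = Spec.map ρ₁ ≫ σ := by
    refine pullback.hom_ext ?_ ?_
    · rw [Category.assoc, Category.assoc, pullback.lift_fst, pullback.lift_fst]; exact hm₀
    · rw [Category.assoc, Category.assoc, pullback.lift_snd, pullback.lift_snd, ← Spec.map_comp,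
        ← Spec.map_comp, hcomp]
  have hrange : Set.range mP ⊆ Set.range W.ι := by
    rintro _ ⟨s, rfl⟩
    obtain ⟨s', rfl⟩ := (isHomeomorph_specMap q₁ hq₁ hJ₁).surjective s
    refine ⟨σ' (Spec.map ρ₁ s'), ?_⟩
    rw [← Scheme.Hom.comp_apply, ← Scheme.Hom.comp_apply, σ.liftCoborder_ι, ← hmP]
    rfl
  let mW := IsOpenImmersion.lift W.ι mP hrange
  have hmW : mW ≫ W.ι = mP := IsOpenImmersion.lift_fac _ _ _
  have hmW' : t' ≫ mW = Spec.map ρ₁ ≫ σ' := by
    rw [← cancel_mono W.ι, Category.assoc, Category.assoc, hmW, σ.liftCoborder_ι, hmP]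
  have hkerm : j.ker ≤ mW.ker := by
    rw [Scheme.IdealSheafData.ker_subschemeι]
    refine Scheme.IdealSheafData.le_ofIdeals_iff.mpr fun U ↦ ?_
    rw [Scheme.IdealSheafData.ideal_mul, Pi.mul_apply, Ideal.mul_le]
    intro x hx y hy
    rw [RingHom.mem_ker, map_mul]
    have hz : ∀ x ∈ J.ideal U, t'.app (mW ⁻¹ᵁ U.1) (mW.app U.1 x) = 0 := by
      intro x hx
      rw [Scheme.Hom.ker_apply, RingHom.mem_ker] at hx
      have h0 : (Spec.map ρ₁ ≫ σ').app U.1 x = 0 := by
        rw [Scheme.Hom.comp_app, CommRingCat.comp_apply, hx, map_zero]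
      rw [← CommRingCat.comp_apply, ← Scheme.Hom.comp_app, Scheme.Hom.congr_app hmW' U.1,
        CommRingCat.comp_apply, h0, map_zero]
    exact mul_eq_zero_of_app_eq_zero t' (ker_appTop_specMap_sq q₁ hJ₁) _ _ _ (hz x hx) (hz y hy)
  let mZ := IsClosedImmersion.lift j mW hkerm
  have hmZ : mZ ≫ j = mW := IsClosedImmersion.lift_fac _ _ _
  refine ⟨Spec.preimage (mZ ≫ Z.isoSpec.hom), ⟨?_, ?_, ?_⟩, ?_⟩
  · refine Spec.map_injective ?_
    rw [Spec.map_comp, Spec.map_preimage, hzφ, Category.assoc, Iso.hom_inv_id_assoc]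
    change mZ ≫ j ≫ _ = _
    rw [reassoc_of% hmZ, reassoc_of% hmW, pullback.lift_snd]
  · refine Spec.map_injective ?_
    rw [Spec.map_comp, Spec.map_comp, Spec.map_preimage, hzρ, ← Category.assoc, ← Category.assoc,
      cancel_mono, ← cancel_mono j, Category.assoc, Category.assoc, hmZ, hσ₁]
    exact hmW'
  · rw [Spec.map_preimage]
    simp only [z, Category.assoc, Iso.hom_inv_id_assoc]
    rw [reassoc_of% hmZ, reassoc_of% hmW, pullback.lift_fst]
  · rintro ψ ⟨h1, -, h3⟩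
    refine Spec.map_injective ?_
    rw [Spec.map_preimage, ← cancel_mono Z.isoSpec.inv, Category.assoc, Iso.hom_inv_id,
      Category.comp_id, ← cancel_mono j, hmZ, ← cancel_mono W.ι, hmW]
    refine pullback.hom_ext ?_ ?_
    · rw [pullback.lift_fst, ← h3]
      simp only [z, Category.assoc]
    · rw [pullback.lift_snd, ← h1, Spec.map_comp, hzφ]
      simp only [q, Category.assoc]

end Groth.Agent.InfLift.FirstNbhd
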