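/-
Projectivity of `A₁ ⊗ Ω[B/A]` from lifting square zero extensions (helper33).
-/
import Mathlib.RingTheory.Kaehler.Basic
import Mathlib.Algebra.TrivSqZeroExt.Basic
import Mathlib.RingTheory.TensorProduct.Basic
import Mathlib.Algebra.Module.Projective
import Mathlib.LinearAlgebra.FreeModule.Basic

set_option autoImplicit false
universe u
open TensorProduct TrivSqZeroExt KaehlerDifferential

namespace Groth.Agent.InfLift.ProjKaehler

variable {A B A₁ : Type u} [CommRing A] [CommRing B] [CommRing A₁] [Algebra A B] [Algebra A A₁]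
  [Algebra B A₁] [IsScalarTower A B A₁]

/-- If maps to trivial square zero extensions of `A₁` lift along surjections of modules, then
`A₁ ⊗ Ω[B/A]` is projective. -/
theorem projective_of_lift
    (H : ∀ (M N : Type u) [AddCommGroup M] [AddCommGroup N] [Module A₁ M] [Module A₁ N]
      [Module A₁ᵐᵒᵖ M] [Module A₁ᵐᵒᵖ N] [IsCentralScalar A₁ M] [IsCentralScalar A₁ N]
      (g : M →ₗ[A₁] N), Function.Surjective g → ∀ (θ : B →+* TrivSqZeroExt A₁ N),
      (∀ a, θ (algebraMap A B a) = inl (algebraMap A A₁ a)) →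
      (∀ b, (θ b).fst = algebraMap B A₁ b) →
      ∃ θ' : B →+* TrivSqZeroExt A₁ M, (∀ a, θ' (algebraMap A B a) = inl (algebraMap A A₁ a)) ∧
        ∀ b, TrivSqZeroExt.map g (θ' b) = θ b) :
    Module.Projective A₁ (A₁ ⊗[B] Ω[B⁄A]) := by
  refine Module.Projective.of_lifting_property'' ?_
  intro g hg
  have : IsCentralScalar A₁ (A₁ ⊗[B] Ω[B⁄A]) := ⟨fun c x ↦ by
    induction x with
    | zero => simp
    | tmul t y => simp [TensorProduct.smul_tmul', op_smul_eq_mul, mul_comm]
    | add x y hx hy => simp [smul_add, hx, hy]⟩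
  let d : B → (A₁ ⊗[B] Ω[B⁄A]) := fun b ↦ 1 ⊗ₜ D A B b
  let θ : B →+* TrivSqZeroExt A₁ (A₁ ⊗[B] Ω[B⁄A]) :=
    { toFun := fun b ↦ inl (algebraMap B A₁ b) + inr (d b)
      map_one' := by ext <;> simp [d]
      map_mul' := fun x y ↦ by
        ext
        · simp
        · simp [d, TensorProduct.tmul_add, op_smul_eq_smul]
      map_zero' := by ext <;> simp [d]
      map_add' := fun x y ↦ by ext <;> simp [d, TensorProduct.tmul_add] }
  obtain ⟨θ', hθA, hθ⟩ := H ((A₁ ⊗[B] Ω[B⁄A]) →₀ A₁) (A₁ ⊗[B] Ω[B⁄A]) g hg θ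
    (fun a ↦ by ext <;> simp [θ, d, ← IsScalarTower.algebraMap_apply])
    (fun b ↦ by simp [θ])
  have hfst : ∀ b, (θ' b).fst = algebraMap B A₁ b := fun b ↦ by
    rw [← fst_map g, hθ b]; simp [θ]
  let D' : Derivation A B ((A₁ ⊗[B] Ω[B⁄A]) →₀ A₁) :=
    Derivation.mk'
      { toFun := fun b ↦ (θ' b).snd
        map_add' := fun x y ↦ by rw [map_add, snd_add]
        map_smul' := fun a b ↦ by
          rw [Algebra.smul_def, map_mul, snd_mul, hθA, fst_inl, snd_inl, hfst]
          simp [algebraMap_smul] }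
      fun x y ↦ by
        change (θ' (x * y)).snd = x • (θ' y).snd + y • (θ' x).snd
        rw [map_mul, snd_mul, hfst, hfst, op_smul_eq_smul, algebraMap_smul, algebraMap_smul]
  refine ⟨LinearMap.liftBaseChange A₁ D'.liftKaehlerDifferential, ?_⟩
  have hD : g.restrictScalars B ∘ₗ D'.liftKaehlerDifferential =
      (TensorProduct.mk B A₁ Ω[B⁄A] 1) := by
    refine Derivation.liftKaehlerDifferential_unique _ _ (Derivation.ext fun b ↦ ?_)
    change g (D'.liftKaehlerDifferential (D A B b)) = d b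
    rw [Derivation.liftKaehlerDifferential_comp_D]
    change g (θ' b).snd = d b
    rw [← snd_map g, hθ b]
    simp [θ]
  refine TensorProduct.AlgebraTensorModule.ext fun c w ↦ ?_
  rw [LinearMap.comp_apply, LinearMap.liftBaseChange_tmul, map_smul, LinearMap.id_apply]
  rw [show g (D'.liftKaehlerDifferential w) = 1 ⊗ₜ w from congr($hD w), TensorProduct.smul_tmul',
    smul_eq_mul, mul_one]

end Groth.Agent.InfLift.ProjKaehler
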