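/-
Retractions of square zero extensions with projective cotangent space (helper33).
-/
import Mathlib.RingTheory.Extension.Cotangent.Basic
import Mathlib.RingTheory.Unramified.Basic

set_option autoImplicit false
universe u
open TensorProduct KaehlerDifferential

namespace Groth.Agent.InfLift.RetractAlg

variable {A A₀ B : Type u} [CommRing A] [CommRing A₀] [CommRing B] [Algebra A A₀] [Algebra A B]

set_option backward.isDefEq.respectTransparency false in
theorem exists_retraction_aux (E : Algebra.Extension.{u} A A₀)
    (hπ : Function.Surjective (algebraMap A A₀))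
    (hC : ∀ x y, x ∈ E.ker → y ∈ E.ker → x * y = 0)
    (hinj : Function.Injective (algebraMap A E.Ring)) [Module.Projective A₀ E.CotangentSpace] :
    ∃ r : E.Ring →ₐ[A] A, ∀ b, algebraMap A A₀ (r b) = algebraMap E.Ring A₀ b := by
  classical
  have hsq : E.ker ^ 2 = ⊥ := by
    rw [pow_two, eq_bot_iff, Ideal.mul_le]
    exact fun x hx y hy ↦ hC x y hx hy
  have hmk : Function.Bijective (Algebra.Extension.Cotangent.mk (P := E)) := by
    refine ⟨(injective_iff_map_eq_zero _).mpr fun x hx ↦ Subtype.ext ?_,
      Algebra.Extension.Cotangent.mk_surjective⟩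
    rw [Algebra.Extension.Cotangent.mk_eq_zero_iff, hsq] at hx
    exact hx
  let mkE := LinearEquiv.ofBijective Algebra.Extension.Cotangent.mk hmk
  have : Algebra.FormallyUnramified A A₀ :=
    Algebra.FormallyUnramified.of_surjective (Algebra.ofId A A₀) hπ
  have hsurj : Function.Surjective E.cotangentComplex := fun z ↦
    (E.exact_cotangentComplex_toKaehler z).mp (Subsingleton.elim _ _)
  obtain ⟨σ, hσ⟩ := Module.projective_lifting_property E.cotangentComplex LinearMap.id hsurj
  let δ : E.Ring → E.Ring := fun b ↦ (mkE.symm (σ (1 ⊗ₜ D A E.Ring b))).1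
  have hδmem : ∀ b, δ b ∈ E.ker := fun b ↦ (mkE.symm _).2
  have hδ_add : ∀ b b', δ (b + b') = δ b + δ b' := fun b b' ↦ by
    simp only [δ, map_add, TensorProduct.tmul_add, Submodule.coe_add]
  have hδ_mul : ∀ b b', δ (b * b') = b * δ b' + b' * δ b := fun b b' ↦ by
    simp only [δ, Derivation.leibniz, TensorProduct.tmul_add, TensorProduct.tmul_smul, map_add,
      LinearMap.map_smul_of_tower, map_smul, Submodule.coe_add, SetLike.val_smul, smul_eq_mul]
  have hδ_alg : ∀ a : A, δ (algebraMap A E.Ring a) = 0 := fun a ↦ by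
    simp only [δ, Derivation.map_algebraMap, TensorProduct.tmul_zero, map_zero,
      Submodule.coe_zero]
  -- the endomorphism
  let e : E.Ring →ₐ[A] E.Ring :=
    { toFun := fun b ↦ b - δ b
      map_one' := by
        have : δ 1 = 0 := by simpa using hδ_alg 1
        rw [this, sub_zero]
      map_mul' := fun b b' ↦ by
        rw [hδ_mul]
        have := hC (δ b) (δ b') (hδmem b) (hδmem b')
        linear_combination -this
      map_zero' := by
        have : δ 0 = 0 := by simpa using hδ_alg 0
        rw [this, sub_zero]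
      map_add' := fun b b' ↦ by rw [hδ_add]; ring
      commutes' := fun a ↦ by rw [hδ_alg, sub_zero] }
  have hρe : ∀ b, algebraMap E.Ring A₀ (e b) = algebraMap E.Ring A₀ b := fun b ↦ by
    change algebraMap E.Ring A₀ (b - δ b) = algebraMap E.Ring A₀ b
    rw [map_sub, show algebraMap E.Ring A₀ (δ b) = 0 from hδmem b, sub_zero]
  -- the image of the ideal of `A`
  let N : Submodule A₀ E.Cotangent := Submodule.span A₀ (Set.range fun i : RingHom.ker (algebraMap A A₀) ↦
    Algebra.Extension.Cotangent.mk ⟨algebraMap A E.Ring i, show algebraMap E.Ring A₀ (algebraMap A E.Ring i) = 0 by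
      rw [← IsScalarTower.algebraMap_apply]; exact i.2⟩)
  have hN : ∀ z ∈ N, ∃ i : A, algebraMap A A₀ i = 0 ∧ (mkE.symm z).1 = algebraMap A E.Ring i := by
    intro z hz
    induction hz using Submodule.span_induction with
    | mem z hz =>
      obtain ⟨i, rfl⟩ := hz
      exact ⟨i, i.2, congr_arg Subtype.val (mkE.symm_apply_apply _)⟩
    | zero => exact ⟨0, map_zero _, by simp⟩
    | add z z' _ _ h h' =>
      obtain ⟨i, hi, hi'⟩ := h
      obtain ⟨j, hj, hj'⟩ := h'
      exact ⟨i + j, by rw [map_add, hi, hj, add_zero], by rw [map_add, map_add, ← hi', ← hj']; rfl⟩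
    | smul c z _ h =>
      obtain ⟨i, hi, hi'⟩ := h
      obtain ⟨x, rfl⟩ := hπ c
      refine ⟨x * i, by rw [map_mul, hi, mul_zero], ?_⟩
      rw [IsScalarTower.algebraMap_apply A E.Ring A₀, algebraMap_smul, map_smul, map_mul, ← hi']
      rfl
  choose sp hsp using fun b : E.Ring ↦ hπ (algebraMap E.Ring A₀ b)
  have hmem : ∀ (b : E.Ring) (a : A), algebraMap A A₀ a = algebraMap E.Ring A₀ b → b - algebraMap A E.Ring a ∈ E.ker :=
    fun b a h ↦ show algebraMap E.Ring A₀ (b - algebraMap A E.Ring a) = 0 by
      rw [map_sub, ← IsScalarTower.algebraMap_apply, h, sub_self]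
  let cls : E.Ring → E.Cotangent ⧸ N := fun b ↦
    N.mkQ (Algebra.Extension.Cotangent.mk ⟨b - algebraMap A E.Ring (sp b), hmem b _ (hsp b)⟩)
  have hcls : ∀ b a (h : algebraMap A A₀ a = algebraMap E.Ring A₀ b),
      cls b = N.mkQ (Algebra.Extension.Cotangent.mk ⟨b - algebraMap A E.Ring a, hmem b a h⟩) := by
    intro b a h
    simp only [cls, Submodule.mkQ_apply, Submodule.Quotient.eq, ← map_sub]
    refine Submodule.subset_span ⟨⟨a - sp b, show algebraMap A A₀ (a - sp b) = 0 by
      rw [map_sub, h, hsp, sub_self]⟩, ?_⟩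
    refine congr_arg Algebra.Extension.Cotangent.mk (Subtype.ext ?_)
    simp only [AddSubgroupClass.coe_sub, map_sub]
    ring
  let clsDer : Derivation A E.Ring (E.Cotangent ⧸ N) :=
    Derivation.mk'
      { toFun := cls
        map_add' := fun b b' ↦ by
          rw [hcls (b + b') (sp b + sp b') (by rw [map_add, map_add, hsp, hsp])]
          simp only [cls]
          rw [← map_add N.mkQ, ← map_add Algebra.Extension.Cotangent.mk]
          congr 2
          refine Subtype.ext ?_
          simp only [map_add, Submodule.coe_add]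
          ring
        map_smul' := fun a b ↦ by
          have h1 : algebraMap A A₀ (a * sp b) = algebraMap E.Ring A₀ (a • b) := by
            rw [map_mul, hsp, Algebra.smul_def, map_mul, ← IsScalarTower.algebraMap_apply]
          rw [hcls (a • b) (a * sp b) h1, RingHom.id_apply, ← LinearMap.map_smul_of_tower,
            ← algebraMap_smul E.Ring a (Algebra.Extension.Cotangent.mk _), ← map_smul]
          congr 2
          refine Subtype.ext ?_
          simp only [SetLike.val_smul, smul_eq_mul, map_mul, Algebra.smul_def]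
          ring }
      fun b b' ↦ by
        change cls (b * b') = b • cls b' + b' • cls b
        have h1 : algebraMap A A₀ (sp b * sp b') = algebraMap E.Ring A₀ (b * b') := by
          rw [map_mul, map_mul, hsp, hsp]
        rw [hcls (b * b') _ h1]
        have hact : b' • cls b = algebraMap A E.Ring (sp b') • cls b := by
          rw [← algebraMap_smul A₀ b' (cls b), ← algebraMap_smul A₀ (algebraMap A E.Ring (sp b')) (cls b)]
          congr 1
          rw [← IsScalarTower.algebraMap_apply A E.Ring A₀, hsp]
        rw [hact]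
        simp only [cls, ← LinearMap.map_smul_of_tower, ← map_smul, ← map_add]
        congr 2
        ext
        simp only [Submodule.coe_add, SetLike.val_smul, smul_eq_mul, map_mul]
        ring
  let L : E.CotangentSpace →ₗ[A₀] E.Cotangent ⧸ N :=
    LinearMap.liftBaseChange A₀ clsDer.liftKaehlerDifferential
  have hL : ∀ x : E.ker, L (E.cotangentComplex (Algebra.Extension.Cotangent.mk x)) =
      N.mkQ (Algebra.Extension.Cotangent.mk x) := by
    intro x
    rw [Algebra.Extension.cotangentComplex_mk, LinearMap.liftBaseChange_tmul, one_smul,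
      Derivation.liftKaehlerDifferential_comp_D]
    change cls x.1 = _
    rw [hcls x.1 0 (by rw [map_zero]; exact x.2.symm)]
    congr 2
    ext
    simp
  have hrange : ∀ b, ∃ a, algebraMap A E.Ring a = e b := by
    intro b
    let c : E.ker := ⟨b - algebraMap A E.Ring (sp b), hmem b _ (hsp b)⟩
    have hec : e c.1 ∈ E.ker := show algebraMap E.Ring A₀ (e c.1) = 0 by rw [hρe]; exact c.2
    have hd : E.cotangentComplex (Algebra.Extension.Cotangent.mk ⟨e c.1, hec⟩) = 0 := by
      have : (⟨e c.1, hec⟩ : E.ker) = c - mkE.symm (σ (1 ⊗ₜ D A E.Ring c.1)) := rfl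
      rw [this, map_sub, map_sub]
      have h1 : Algebra.Extension.Cotangent.mk (mkE.symm (σ (1 ⊗ₜ D A E.Ring c.1))) =
          σ (1 ⊗ₜ D A E.Ring c.1) := mkE.apply_symm_apply _
      rw [h1, ← LinearMap.comp_apply E.cotangentComplex σ, hσ, LinearMap.id_apply,
        Algebra.Extension.cotangentComplex_mk, sub_self]
    have hmemN : Algebra.Extension.Cotangent.mk ⟨e c.1, hec⟩ ∈ N := by
      rw [← Submodule.Quotient.mk_eq_zero, ← Submodule.mkQ_apply, ← hL, hd, map_zero]
    obtain ⟨i, -, hi⟩ := hN _ hmemN
    refine ⟨sp b + i, ?_⟩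
    have h2 : (mkE.symm (Algebra.Extension.Cotangent.mk ⟨e c.1, hec⟩)).1 = e c.1 :=
      congr_arg Subtype.val (mkE.symm_apply_apply ⟨e c.1, hec⟩)
    rw [map_add, ← hi, h2]
    change _ + e (b - algebraMap A E.Ring (sp b)) = e b
    rw [map_sub, AlgHom.commutes, add_sub_cancel]
  choose r hr using hrange
  refine ⟨{ toFun := r, map_one' := hinj ?_, map_mul' := fun x y ↦ hinj ?_,
            map_zero' := hinj ?_, map_add' := fun x y ↦ hinj ?_, commutes' := fun a ↦ hinj ?_ },
    fun b ↦ ?_⟩
  · exact (hr 1).trans (by rw [map_one, map_one])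
  · exact (hr _).trans (by rw [map_mul, map_mul]; exact (congr_arg₂ _ (hr x) (hr y)).symm)
  · exact (hr 0).trans (by rw [map_zero, map_zero])
  · exact (hr _).trans (by rw [map_add, map_add]; exact (congr_arg₂ _ (hr x) (hr y)).symm)
  · exact (hr _).trans (e.commutes a)
  · change algebraMap A A₀ (r b) = algebraMap E.Ring A₀ b
    rw [← hρe b, ← hr b]
    exact IsScalarTower.algebraMap_apply A E.Ring A₀ _

set_option backward.isDefEq.respectTransparency false in
/-- Let `B → A₀` be a square zero extension over `A`, `A → A₀` surjective and `A → B` injective. If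
`A₀ ⊗ Ω[B/A]` is projective then `A → B` has a retraction compatible with the maps to `A₀`. -/
theorem exists_retraction (hπ : Function.Surjective (algebraMap A A₀)) (ρ : B →ₐ[A] A₀)
    (hρ : Function.Surjective ρ) (hC : ∀ x y, ρ x = 0 → ρ y = 0 → x * y = 0)
    (hinj : Function.Injective (algebraMap A B))
    (hproj : letI := ρ.toRingHom.toAlgebra; Module.Projective A₀ (A₀ ⊗[B] Ω[B⁄A])) :
    ∃ r : B →ₐ[A] A, ∀ b, algebraMap A A₀ (r b) = ρ b := by
  let E : Algebra.Extension.{u} A A₀ := Algebra.Extension.ofSurjective ρ hρ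
  have : Module.Projective A₀ E.CotangentSpace := hproj
  exact exists_retraction_aux E hπ hC hinj

end Groth.Agent.InfLift.RetractAlg
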