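/-
Morphisms which are formally smooth on affine charts have the infinitesimal lifting property
against square zero thickenings of affine schemes (helper33).
-/
import Groth.Agent.InfLift.FirstNbhd
import Groth.Agent.InfLift.RetractAlg
import Groth.Agent.InfLift.ProjKaehler
import Groth.Agent.ProjDesc.Basic
import Mathlib.RingTheory.Smooth.Basic
import Mathlib.RingTheory.Flat.FaithfullyFlat.Algebra
import Mathlib.RingTheory.Localization.Away.Basic

set_option autoImplicit false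
universe u
open CategoryTheory CategoryTheory.Limits AlgebraicGeometry TopologicalSpace TensorProduct

namespace Groth.Agent.InfLift.SmoothLift

/-- A finite product of localizations at elements generating the unit ideal is faithfully flat. -/
theorem faithfullyFlat_pi_away {R : Type u} [CommRing R] {ι : Type u} [Finite ι] (g : ι → R)
    (hg : Ideal.span (Set.range g) = ⊤) :
    Module.FaithfullyFlat R (Π i, Localization.Away (g i)) := by
  classical
  cases nonempty_fintype ι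
  have hflat : ∀ i, Module.Flat R (Localization.Away (g i)) := fun i ↦
    IsLocalization.flat _ (Submonoid.powers (g i))
  have : Module.Flat R (Π i, Localization.Away (g i)) :=
    Module.Flat.of_linearEquiv (DFinsupp.linearEquivFunOnFintype (R := R)).symm
  refine Module.FaithfullyFlat.of_comap_surjective fun p ↦ ?_
  obtain ⟨_, ⟨i, rfl⟩, hi⟩ := Set.not_subset.mp fun h : Set.range g ⊆ p.asIdeal ↦
    p.isPrime.ne_top (top_le_iff.mp (hg ▸ Ideal.span_le.mpr h))
  have hp : p ∈ Set.range (PrimeSpectrum.comap (algebraMap R (Localization.Away (g i)))) := by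
    rw [PrimeSpectrum.localization_away_comap_range _ (g i)]
    exact hi
  obtain ⟨Q, hQ⟩ := hp
  exact ⟨PrimeSpectrum.comap (Pi.evalRingHom (fun j ↦ Localization.Away (g j)) i) Q, hQ⟩

/-- Projectivity can be checked on a standard open cover. -/
theorem projective_of_away {R : Type u} [CommRing R] (P : Type u) [AddCommGroup P] [Module R P]
    {ι : Type u} [Finite ι] (g : ι → R) (hg : Ideal.span (Set.range g) = ⊤)
    (h : ∀ i, Module.Projective (Localization.Away (g i)) (Localization.Away (g i) ⊗[R] P)) :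
    Module.Projective R P := by
  classical
  cases nonempty_fintype ι
  let A := fun i ↦ Localization.Away (g i)
  have : Module.FaithfullyFlat R (Π i, A i) := faithfullyFlat_pi_away g hg
  let π : (P →₀ R) →ₗ[R] P := Finsupp.linearCombination R id
  have hπ : Function.Surjective π := fun x ↦ ⟨Finsupp.single x 1, by simp [π]⟩
  have hsec : ∀ i, ∃ σ : A i ⊗[R] P →ₗ[A i] A i ⊗[R] (P →₀ R),
      (π.baseChange (A i)) ∘ₗ σ = LinearMap.id := fun i ↦
    Module.projective_lifting_property _ LinearMap.id (LinearMap.lTensor_surjective (A i) hπ)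
  choose σ hσ using hsec
  let pr := fun i ↦ (LinearMap.proj (R := R) (φ := A) i)
  let ι' := fun i ↦ (LinearMap.single R A i)
  let τ : (Π i, A i) ⊗[R] P →ₗ[R] (Π i, A i) ⊗[R] (P →₀ R) :=
    ∑ i, (ι' i).rTensor _ ∘ₗ (σ i).restrictScalars R ∘ₗ (pr i).rTensor _
  have hpr : ∀ i (s : Π j, A j) (x : (Π j, A j) ⊗[R] P),
      (pr i).rTensor P (s • x) = s i • (pr i).rTensor P x := by
    intro i s x
    induction x with
    | zero => simp
    | tmul t y => simp [pr, TensorProduct.smul_tmul']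
    | add x y hx hy => simp only [smul_add, map_add, hx, hy]
  have hι : ∀ i (s : Π j, A j) (y : A i ⊗[R] (P →₀ R)),
      (ι' i).rTensor _ (s i • y) = s • (ι' i).rTensor (P →₀ R) y := by
    intro i s y
    induction y with
    | zero => simp
    | tmul t y =>
      simp only [TensorProduct.smul_tmul', LinearMap.rTensor_tmul, smul_eq_mul]
      congr 1
      ext j
      by_cases hj : j = i
      · subst hj; simp [ι']
      · simp [ι', hj]
    | add x y hx hy => simp only [smul_add, map_add, hx, hy]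
  let τ' : (Π i, A i) ⊗[R] P →ₗ[Π i, A i] (Π i, A i) ⊗[R] (P →₀ R) :=
    { toFun := τ
      map_add' := map_add τ
      map_smul' := fun s x ↦ by
        simp only [τ, LinearMap.sum_apply, LinearMap.comp_apply, RingHom.id_apply, Finset.smul_sum,
          LinearMap.coe_restrictScalars]
        exact Finset.sum_congr rfl fun i _ ↦ by rw [hpr, map_smul, hι] }
  have hτ : (π.baseChange (Π i, A i)) ∘ₗ τ' = LinearMap.id := by
    refine TensorProduct.AlgebraTensorModule.ext fun s y ↦ ?_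
    change π.baseChange _ (τ (s ⊗ₜ y)) = s ⊗ₜ y
    have hcomm : ∀ i (y : A i ⊗[R] (P →₀ R)), π.baseChange (Π i, A i) ((ι' i).rTensor _ y) =
        (ι' i).rTensor P (π.baseChange (A i) y) := by
      intro i y
      induction y with
      | zero => simp
      | tmul t y => simp
      | add x y hx hy => simp only [map_add, hx, hy]
    simp only [τ, LinearMap.sum_apply, LinearMap.comp_apply, map_sum, LinearMap.coe_restrictScalars,
      hcomm]
    have hs : ∀ i z, π.baseChange (A i) (σ i z) = z := fun i z ↦ congr($(hσ i) z)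
    simp only [hs, LinearMap.rTensor_tmul, ← TensorProduct.sum_tmul]
    congr 1
    exact Finset.univ_sum_single s
  have : Module.Projective (Π i, A i) ((Π i, A i) ⊗[R] P) :=
    Module.Projective.of_split τ' (π.baseChange _) hτ
  exact ProjDesc.projective_of_baseChange R (Π i, A i) P

variable {X Y : Scheme.{u}} (f : X ⟶ Y)

/-- Lifts into an affine chart with formally smooth ring map. -/
theorem exists_lift_of_chart (U : X.Opens) (V : Y.Opens) (hU : IsAffineOpen U) (hV : IsAffineOpen V)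
    (hUV : U ≤ f ⁻¹ᵁ V)
    (h : letI := (f.appLE V U hUV).hom.toAlgebra; Algebra.FormallySmooth Γ(Y, V) Γ(X, U))
    {D D₀ : CommRingCat.{u}} (q : D ⟶ D₀) (hq : Function.Surjective q)
    (hJ : RingHom.ker q.hom ^ 2 = ⊥) (bD : Spec D ⟶ Y) (m₀ : Spec D₀ ⟶ X)
    (w : Spec.map q ≫ bD = m₀ ≫ f) (hr : Set.range m₀ ⊆ U) :
    ∃ m : Spec D ⟶ X, Spec.map q ≫ m = m₀ ∧ m ≫ f = bD := by
  let _ := (f.appLE V U hUV).hom.toAlgebra
  have hb : Set.range bD ⊆ V := by
    rintro _ ⟨p, rfl⟩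
    obtain ⟨s, rfl⟩ := (FirstNbhd.isHomeomorph_specMap q hq hJ).surjective p
    rw [← Scheme.Hom.comp_apply, w, Scheme.Hom.comp_apply]
    exact hUV (hr ⟨s, rfl⟩)
  obtain ⟨α, hα⟩ := Spec.map_surjective (IsOpenImmersion.lift hU.fromSpec m₀ (by rwa [hU.range_fromSpec]))
  obtain ⟨β, hβ⟩ := Spec.map_surjective (IsOpenImmersion.lift hV.fromSpec bD (by rwa [hV.range_fromSpec]))
  have ha : Spec.map α ≫ hU.fromSpec = m₀ := by rw [hα, IsOpenImmersion.lift_fac]
  have hb' : Spec.map β ≫ hV.fromSpec = bD := by rw [hβ, IsOpenImmersion.lift_fac]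
  have hsq : f.appLE V U hUV ≫ α = β ≫ q := by
    apply Spec.map_injective
    rw [Spec.map_comp, Spec.map_comp, ← cancel_mono hV.fromSpec, Category.assoc, Category.assoc,
      IsAffineOpen.SpecMap_appLE_fromSpec f hV hU hUV, reassoc_of% ha, hb', w]
  let _ : Algebra Γ(Y, V) D := β.hom.toAlgebra
  let _ : Algebra Γ(Y, V) D₀ := (β ≫ q).hom.toAlgebra
  let α' : Γ(X, U) →ₐ[Γ(Y, V)] D₀ := { α.hom with commutes' := fun r ↦ congr($(hsq).hom r) }
  let q' : D →ₐ[Γ(Y, V)] D₀ := { q.hom with commutes' := fun r ↦ rfl }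
  have hnil : IsNilpotent (RingHom.ker (q' : D →+* D₀)) := ⟨2, hJ⟩
  let γ := Algebra.FormallySmooth.liftOfSurjective α' q' hq hnil
  refine ⟨Spec.map (CommRingCat.ofHom γ.toRingHom) ≫ hU.fromSpec, ?_, ?_⟩
  · rw [← Category.assoc, ← Spec.map_comp, ← ha]
    congr 2
    ext x
    exact Algebra.FormallySmooth.liftOfSurjective_apply α' q' hq hnil x
  · rw [Category.assoc, ← IsAffineOpen.SpecMap_appLE_fromSpec f hV hU hUV, ← Category.assoc,
      ← Spec.map_comp, ← hb']
    congr 2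
    ext x
    exact γ.commutes x

variable {f} {A : Type u} [CommRing A] {I : Ideal A}
  {a₀ : Spec (CommRingCat.of (A ⧸ I)) ⟶ X} {b : Spec (CommRingCat.of A) ⟶ Y}

/-- An element of `A` together with a formally smooth affine chart containing the image of its
basic open. -/
structure Chart (f : X ⟶ Y) (a₀ : Spec (CommRingCat.of (A ⧸ I)) ⟶ X) (a : A) where
  U : X.Opens
  V : Y.Opens
  hU : IsAffineOpen U
  hV : IsAffineOpen V
  hUV : U ≤ f ⁻¹ᵁ V
  smooth : letI := (f.appLE V U hUV).hom.toAlgebra; Algebra.FormallySmooth Γ(Y, V) Γ(X, U)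
  mem : ∀ s : PrimeSpectrum (A ⧸ I), Ideal.Quotient.mk I a ∉ s.asIdeal → a₀ s ∈ U

theorem Chart.range_subset {a : A} (c : Chart f a₀ a) {D₀ : CommRingCat.{u}}
    (ρ₁ : CommRingCat.of (A ⧸ I) ⟶ D₀) (ha : IsUnit (ρ₁ (Ideal.Quotient.mk I a))) :
    Set.range (Spec.map ρ₁ ≫ a₀) ⊆ c.U := by
  rintro _ ⟨s, rfl⟩
  refine c.mem _ fun h ↦ ?_
  exact s.isPrime.ne_top (Ideal.eq_top_of_isUnit_mem _ h ha)

theorem exists_chart
    (H : ∀ (U : X.Opens) (V : Y.Opens) (_ : IsAffineOpen U) (_ : IsAffineOpen V) (hUV : U ≤ f ⁻¹ᵁ V),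
      letI := (f.appLE V U hUV).hom.toAlgebra; Algebra.FormallySmooth Γ(Y, V) Γ(X, U))
    (hI : I ^ 2 = ⊥) (p : PrimeSpectrum A) :
    ∃ a : A, a ∉ p.asIdeal ∧ Nonempty (Chart f a₀ a) := by
  let q : CommRingCat.of A ⟶ CommRingCat.of (A ⧸ I) := CommRingCat.ofHom (Ideal.Quotient.mk I)
  have hq : IsHomeomorph (Spec.map q) := FirstNbhd.isHomeomorph_specMap q Ideal.Quotient.mk_surjective
    (by rw [CommRingCat.hom_ofHom, Ideal.mk_ker, hI])
  obtain ⟨s, hs⟩ := hq.surjective p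
  obtain ⟨V, hV, hxV, -⟩ := exists_isAffineOpen_mem_and_subset (x := f (a₀ s)) (U := ⊤) trivial
  obtain ⟨U, hU, hxU, hUV⟩ :=
    exists_isAffineOpen_mem_and_subset (x := a₀ s) (U := f ⁻¹ᵁ V) hxV
  have hopen : IsOpen (Spec.map q '' (a₀ ⁻¹' (U : Set X))) :=
    hq.isOpenMap _ (U.isOpen.preimage a₀.continuous)
  obtain ⟨_, ⟨a, rfl⟩, hpa, haU⟩ :=
    PrimeSpectrum.isTopologicalBasis_basic_opens.exists_subset_of_mem_open
      (show p ∈ Spec.map q '' (a₀ ⁻¹' (U : Set X)) from ⟨s, hxU, hs⟩) hopen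
  refine ⟨a, hpa, ⟨⟨U, V, hU, hV, hUV, H U V hU hV hUV, fun s' hs' ↦ ?_⟩⟩⟩
  obtain ⟨s'', hs'', he⟩ := haU (show Spec.map q s' ∈ PrimeSpectrum.basicOpen a from hs')
  exact hq.injective he ▸ hs''

set_option backward.isDefEq.respectTransparency false in
/-- A morphism formally smooth on affine charts lifts square zero thickenings of affine schemes. -/
theorem exists_lift
    (H : ∀ (U : X.Opens) (V : Y.Opens) (_ : IsAffineOpen U) (_ : IsAffineOpen V) (hUV : U ≤ f ⁻¹ᵁ V),
      letI := (f.appLE V U hUV).hom.toAlgebra; Algebra.FormallySmooth Γ(Y, V) Γ(X, U))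
    (hI : I ^ 2 = ⊥) (w : Spec.map (CommRingCat.ofHom (Ideal.Quotient.mk I)) ≫ b = a₀ ≫ f) :
    ∃ l : Spec (CommRingCat.of A) ⟶ X,
      Spec.map (CommRingCat.ofHom (Ideal.Quotient.mk I)) ≫ l = a₀ ∧ l ≫ f = b := by
  obtain ⟨B, φ, ρ, z, hφρ, hρ, hC, hzf, hρz, huniv⟩ := FirstNbhd.exists_firstNbhd f A I hI a₀ b w
  choose g hgp hchart using fun p : PrimeSpectrum A ↦ exists_chart (a₀ := a₀) H hI p
  let c := fun p ↦ (hchart p).some
  -- injectivity
  have hinj : Function.Injective φ := by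
    refine (injective_iff_map_eq_zero _).mpr fun x hx ↦ ?_
    by_contra hx0
    have hann : (Submodule.span A {x}).annihilator ≠ ⊤ := fun h ↦ hx0
      ((one_smul A x).symm.trans
        ((Submodule.mem_annihilator_span_singleton x 1).mp (h ▸ Submodule.mem_top)))
    obtain ⟨P, hP, hle⟩ := Ideal.exists_le_maximal _ hann
    let p : PrimeSpectrum A := ⟨P, hP.isPrime⟩
    let L := Localization.Away (g p)
    let J : Ideal L := I.map (algebraMap A L)
    let q : CommRingCat.of L ⟶ CommRingCat.of (L ⧸ J) := CommRingCat.ofHom (Ideal.Quotient.mk J)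
    have hJ : RingHom.ker q.hom ^ 2 = ⊥ := by
      rw [CommRingCat.hom_ofHom, Ideal.mk_ker, ← Ideal.map_pow, hI, Ideal.map_bot]
    let ψ₀ : CommRingCat.of A ⟶ CommRingCat.of L := CommRingCat.ofHom (algebraMap A L)
    let ρ₁ : CommRingCat.of (A ⧸ I) ⟶ CommRingCat.of (L ⧸ J) :=
      CommRingCat.ofHom (Ideal.quotientMap J (algebraMap A L) Ideal.le_comap_map)
    have hcomm : CommRingCat.ofHom (Ideal.Quotient.mk I) ≫ ρ₁ = ψ₀ ≫ q := by
      ext y; rfl
    obtain ⟨m, hm₁, hm₂⟩ := exists_lift_of_chart f (c p).U (c p).V (c p).hU (c p).hV (c p).hUV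
      (c p).smooth q Ideal.Quotient.mk_surjective hJ (Spec.map ψ₀ ≫ b) (Spec.map ρ₁ ≫ a₀)
      (by rw [← Spec.map_comp_assoc, ← hcomm, Spec.map_comp_assoc, w, Category.assoc])
      ((c p).range_subset ρ₁
        ((IsLocalization.Away.algebraMap_isUnit (S := L) (g p)).map (Ideal.Quotient.mk J)))
    obtain ⟨ψ, ⟨hψ, -, -⟩, -⟩ :=
      huniv _ _ ψ₀ q Ideal.Quotient.mk_surjective hJ ρ₁ hcomm m hm₂ hm₁
    have hxL : algebraMap A L x = 0 := by
      have h1 := congr($(hψ) x)
      rw [CommRingCat.comp_apply, hx, map_zero] at h1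
      exact h1.symm
    obtain ⟨⟨_, n, rfl⟩, hn⟩ := (IsLocalization.map_eq_zero_iff (Submonoid.powers (g p)) L x).mp hxL
    exact hgp p (hP.isPrime.mem_of_pow_mem n
      (hle ((Submodule.mem_annihilator_span_singleton x _).mpr (by simpa [smul_eq_mul] using hn))))
  -- algebra structures
  let _ : Algebra A B := φ.hom.toAlgebra
  let ρA : (B : Type u) →ₐ[A] A ⧸ I := { ρ.hom with commutes' := fun r ↦ congr($(hφρ) r) }
  let _ : Algebra B (A ⧸ I) := ρA.toRingHom.toAlgebra
  have : IsScalarTower A B (A ⧸ I) := IsScalarTower.of_algebraMap_eq fun r ↦ (congr($(hφρ) r)).symm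
  have hproj : Module.Projective (A ⧸ I) ((A ⧸ I) ⊗[B] Ω[B⁄A]) := by
    have hspan : Ideal.span (Set.range fun p ↦ Ideal.Quotient.mk I (g p)) = ⊤ := by
      rw [Ideal.eq_top_iff_one]
      by_contra h1
      obtain ⟨P, hP, hle⟩ := Ideal.exists_le_maximal _ (fun h ↦ h1 ((Ideal.eq_top_iff_one _).mp h))
      let p : PrimeSpectrum A := ⟨P.comap (Ideal.Quotient.mk I), inferInstance⟩
      exact hgp p (hle (Ideal.subset_span ⟨p, rfl⟩))
    obtain ⟨t, ht, h1⟩ := Submodule.mem_span_finite_of_mem_span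
      ((Ideal.eq_top_iff_one _).mp hspan)
    choose pt hpt using fun i : t ↦ ht i.2
    let g' : t → A ⧸ I := fun i ↦ Ideal.Quotient.mk I (g (pt i))
    have hg' : Ideal.span (Set.range g') = ⊤ := by
      rw [Ideal.eq_top_iff_one]
      refine Ideal.span_mono (fun x hx ↦ ?_) h1
      exact ⟨⟨x, hx⟩, hpt _⟩
    refine projective_of_away _ g' hg' fun i ↦ ?_
    let A₁ := Localization.Away (g' i)
    let p := pt i
    have : IsScalarTower B (A ⧸ I) A₁ := inferInstance
    have : IsScalarTower A B A₁ := IsScalarTower.of_algebraMap_eq fun r ↦ by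
      rw [IsScalarTower.algebraMap_apply A (A ⧸ I) A₁]
      exact congr_arg (algebraMap (A ⧸ I) A₁) (congr($(hφρ) r)).symm
    suffices Module.Projective A₁ (A₁ ⊗[B] Ω[B⁄A]) from
      .of_equiv (TensorProduct.AlgebraTensorModule.cancelBaseChange B (A ⧸ I) A₁ A₁ Ω[B⁄A]).symm
    refine ProjKaehler.projective_of_lift fun M N _ _ _ _ _ _ _ _ γ hγ θ hθA hθfst ↦ ?_
    let fstC : ∀ (M : Type u) [AddCommGroup M] [Module A₁ M] [Module A₁ᵐᵒᵖ M] [IsCentralScalar A₁ M],
        CommRingCat.of (TrivSqZeroExt A₁ M) ⟶ CommRingCat.of A₁ := fun M _ _ _ _ ↦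
      CommRingCat.ofHom (TrivSqZeroExt.fstHom A₁ A₁ M).toRingHom
    have hfst : ∀ (M : Type u) [AddCommGroup M] [Module A₁ M] [Module A₁ᵐᵒᵖ M] [IsCentralScalar A₁ M],
        Function.Surjective (fstC M) ∧ RingHom.ker (fstC M).hom ^ 2 = ⊥ := by
      intro M _ _ _ _
      refine ⟨fun x ↦ ⟨TrivSqZeroExt.inl x, rfl⟩, ?_⟩
      rw [pow_two, eq_bot_iff, Ideal.mul_le]
      intro x hx y hy
      have hx' : x.fst = 0 := hx
      have hy' : y.fst = 0 := hy
      exact TrivSqZeroExt.ext (by simp [hx']) (by simp [hx', hy', op_smul_eq_smul])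
    let q : CommRingCat.of (TrivSqZeroExt A₁ M) ⟶ CommRingCat.of (TrivSqZeroExt A₁ N) :=
      CommRingCat.ofHom (TrivSqZeroExt.map γ).toRingHom
    have hqfst : q ≫ fstC N = fstC M := by ext x; exact TrivSqZeroExt.fst_map γ x
    have hqs : Function.Surjective q := fun y ↦ by
      obtain ⟨m, hm⟩ := hγ y.snd
      exact ⟨TrivSqZeroExt.inl y.fst + TrivSqZeroExt.inr m,
        TrivSqZeroExt.ext (by simp [q]) (by simp [q, hm])⟩
    have hqJ : RingHom.ker q.hom ^ 2 = ⊥ := by
      refine eq_bot_iff.mpr ((Ideal.pow_right_mono (fun x hx ↦ ?_) 2).trans (hfst M).2.le)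
      rw [RingHom.mem_ker] at hx ⊢
      rw [← hqfst, CommRingCat.hom_comp, RingHom.comp_apply, hx, map_zero]
    let ψ₀ : CommRingCat.of A ⟶ CommRingCat.of (TrivSqZeroExt A₁ M) :=
      CommRingCat.ofHom ((TrivSqZeroExt.inlHom A₁ M).comp (algebraMap A A₁))
    let ρ₁ : CommRingCat.of (A ⧸ I) ⟶ CommRingCat.of A₁ :=
      CommRingCat.ofHom (algebraMap (A ⧸ I) A₁)
    have hcommM : CommRingCat.ofHom (Ideal.Quotient.mk I) ≫ ρ₁ = ψ₀ ≫ fstC M := by
      ext r; exact (IsScalarTower.algebraMap_apply A (A ⧸ I) A₁ r).symm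
    let θC : B ⟶ CommRingCat.of (TrivSqZeroExt A₁ N) := CommRingCat.ofHom θ
    have hθC : φ ≫ θC = ψ₀ ≫ q := by
      refine CommRingCat.hom_ext (RingHom.ext fun r ↦ ?_)
      change θ (algebraMap A B r) = TrivSqZeroExt.map γ (TrivSqZeroExt.inl (algebraMap A A₁ r))
      rw [hθA, TrivSqZeroExt.map_inl]
    have hθfstC : θC ≫ fstC N = ρ ≫ ρ₁ := by ext x; exact hθfst x
    let m₁ : Spec (CommRingCat.of (TrivSqZeroExt A₁ N)) ⟶ X := Spec.map θC ≫ z
    have hm₁f : m₁ ≫ f = Spec.map (ψ₀ ≫ q) ≫ b := by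
      rw [Category.assoc, hzf, ← Spec.map_comp_assoc, hθC]
    have hm₁r : Spec.map (fstC N) ≫ m₁ = Spec.map ρ₁ ≫ a₀ := by
      rw [← Spec.map_comp_assoc, hθfstC, Spec.map_comp_assoc, hρz]
    have hr : Set.range m₁ ⊆ (c p).U := by
      rintro _ ⟨s, rfl⟩
      obtain ⟨s', rfl⟩ := (FirstNbhd.isHomeomorph_specMap _ (hfst N).1 (hfst N).2).surjective s
      rw [← Scheme.Hom.comp_apply, hm₁r]
      exact (c p).range_subset ρ₁ (IsLocalization.Away.algebraMap_isUnit (S := A₁) (g' i)) ⟨s', rfl⟩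
    obtain ⟨m, hm₁', hmf⟩ := exists_lift_of_chart f (c p).U (c p).V (c p).hU (c p).hV (c p).hUV
      (c p).smooth q hqs hqJ (Spec.map ψ₀ ≫ b) m₁ (by rw [← Spec.map_comp_assoc, hm₁f]) hr
    have hmr : Spec.map (fstC M) ≫ m = Spec.map ρ₁ ≫ a₀ := by
      rw [← hqfst, Spec.map_comp_assoc, hm₁', hm₁r]
    obtain ⟨ψ, ⟨hψA, hψfst, hψz⟩, -⟩ :=
      huniv _ _ ψ₀ (fstC M) (hfst M).1 (hfst M).2 ρ₁ hcommM m hmf hmr
    refine ⟨ψ.hom, fun r ↦ congr($(hψA) r), fun x ↦ ?_⟩
    have hu := (huniv _ _ (ψ₀ ≫ q) (fstC N) (hfst N).1 (hfst N).2 ρ₁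
      (by rw [Category.assoc, hqfst, hcommM]) m₁ hm₁f hm₁r).unique
      (y₁ := ψ ≫ q) (y₂ := θC)
      ⟨by rw [← Category.assoc, hψA], by rw [Category.assoc, hqfst, hψfst],
        by rw [Spec.map_comp_assoc, hψz, hm₁']⟩
      ⟨hθC, hθfstC, rfl⟩
    exact congr($(hu) x)
  obtain ⟨r, hr⟩ := RetractAlg.exists_retraction Ideal.Quotient.mk_surjective ρA hρ
    (fun x y ↦ hC x y) hinj hproj
  let rC : B ⟶ CommRingCat.of A := CommRingCat.ofHom r.toRingHom
  have hrρ : rC ≫ CommRingCat.ofHom (Ideal.Quotient.mk I) = ρ := by ext x; exact hr x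
  have hφr : φ ≫ rC = 𝟙 _ := by ext x; exact r.commutes x
  refine ⟨Spec.map rC ≫ z, ?_, ?_⟩
  · rw [← Spec.map_comp_assoc, hrρ, hρz]
  · rw [Category.assoc, hzf, ← Spec.map_comp_assoc, hφr, Spec.map_id, Category.id_comp]

end Groth.Agent.InfLift.SmoothLift
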