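import Mathlib.AlgebraicGeometry.Morphisms.Etale
import Mathlib.AlgebraicGeometry.Morphisms.ClosedImmersion
import Mathlib.AlgebraicGeometry.IdealSheaf.Functorial

/-! Infinitesimal lifts: gluing of unique lifts, and lifts into affine opens. -/

universe u

open AlgebraicGeometry CategoryTheory Limits

namespace Groth.Agent.InfLift.Glue

variable {X S : Scheme.{u}} (f : X ⟶ S)

/-- `l` is a lift over the open `W`. -/
def IsLiftOn {T T' : Scheme.{u}} (t : T ⟶ T') (a : T ⟶ X) (b : T' ⟶ S) (W : T'.Opens)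
    (l : (W : Scheme.{u}) ⟶ X) : Prop :=
  (t ∣_ W) ≫ l = (t ⁻¹ᵁ W).ι ≫ a ∧ l ≫ f = W.ι ≫ b

variable {f} {T T' : Scheme.{u}} {t : T ⟶ T'} {a : T ⟶ X} {b : T' ⟶ S}

theorem IsLiftOn.mono {W W' : T'.Opens} (h : W' ≤ W) {l : (W : Scheme.{u}) ⟶ X}
    (hl : IsLiftOn f t a b W l) : IsLiftOn f t a b W' (T'.homOfLE h ≫ l) := by
  refine ⟨?_, ?_⟩
  · have e : (t ∣_ W') ≫ T'.homOfLE h = T.homOfLE (t.preimage_mono h) ≫ (t ∣_ W) := by
      rw [← cancel_mono W.ι]; simp
    rw [← Category.assoc, e, Category.assoc, hl.1, Scheme.homOfLE_ι_assoc]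
  · rw [Category.assoc, hl.2, Scheme.homOfLE_ι_assoc]

/-- Unique local lifts on a downward closed basis of affine opens glue to a unique global lift. -/
theorem existsUnique_lift_of_local (w : t ≫ b = a ≫ f) (P : T'.Opens → Prop)
    (hmono : ∀ W W' : T'.Opens, W' ≤ W → P W → P W')
    (hcov : ∀ p : T', ∃ W : T'.Opens, IsAffineOpen W ∧ p ∈ W ∧ P W)
    (hloc : ∀ W : T'.Opens, IsAffineOpen W → P W → ∃! l, IsLiftOn f t a b W l) :
    ∃! l : T' ⟶ X, t ≫ l = a ∧ l ≫ f = b := by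
  choose W hW hp hP using hcov
  choose L hL hLu using fun p ↦ hloc (W p) (hW p) (hP p)
  have huniq : ∀ (p : T') (W' : T'.Opens) (h : W' ≤ W p), IsAffineOpen W' →
      ∀ m, IsLiftOn f t a b W' m → m = T'.homOfLE h ≫ L p := by
    intro p W' h hW' m hm
    obtain ⟨_, _, hu⟩ := hloc W' hW' (hmono _ _ h (hP p))
    exact (hu m hm).trans (hu _ ((hL p).mono h)).symm
  let 𝒰 : T'.OpenCover := T'.openCoverOfIsOpenCover W
    (TopologicalSpace.IsOpenCover.mk <| eq_top_iff.mpr fun p _ ↦ TopologicalSpace.Opens.mem_iSup.mpr ⟨p, hp p⟩)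
  have hcompat : ∀ x y : T', pullback.fst (W x).ι (W y).ι ≫ L x = pullback.snd (W x).ι (W y).ι ≫ L y := by
    intro x y
    refine (pullback (W x).ι (W y).ι).affineCover.hom_ext _ _ fun i ↦ ?_
    let j := (pullback (W x).ι (W y).ι).affineCover.f i
    let k : _ ⟶ T' := j ≫ pullback.fst (W x).ι (W y).ι ≫ (W x).ι
    have k2 : k = j ≫ pullback.snd (W x).ι (W y).ι ≫ (W y).ι := by simp [k, pullback.condition]
    have hx : k.opensRange ≤ W x := by
      rintro _ ⟨q, rfl⟩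
      exact ((pullback.fst (W x).ι (W y).ι) (j q)).2
    have hy : k.opensRange ≤ W y := by
      rintro _ ⟨q, rfl⟩
      rw [k2]
      exact ((pullback.snd (W x).ι (W y).ι) (j q)).2
    have ex : k.isoOpensRange.hom ≫ T'.homOfLE hx = j ≫ pullback.fst (W x).ι (W y).ι := by
      rw [← cancel_mono (W x).ι]; simp [k]
    have ey : k.isoOpensRange.hom ≫ T'.homOfLE hy = j ≫ pullback.snd (W x).ι (W y).ι := by
      rw [← cancel_mono (W y).ι]; simp [k, pullback.condition]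
    have := huniq y _ hy (isAffineOpen_opensRange k) _ ((hL x).mono hx)
    change j ≫ _ = j ≫ _
    rw [← reassoc_of% ex, this, reassoc_of% ey]
  let l : T' ⟶ X := 𝒰.glueMorphisms (fun p ↦ L p) hcompat
  have hl : ∀ p, (W p).ι ≫ l = L p := fun p ↦ 𝒰.ι_glueMorphisms _ hcompat p
  refine ⟨l, ⟨?_, ?_⟩, ?_⟩
  · refine (Scheme.openCoverOfIsOpenCover T (fun p ↦ t ⁻¹ᵁ W p)
      (TopologicalSpace.IsOpenCover.mk <| eq_top_iff.mpr fun p _ ↦
        TopologicalSpace.Opens.mem_iSup.mpr ⟨t p, hp (t p)⟩)).hom_ext _ _ fun p ↦ ?_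
    change (t ⁻¹ᵁ W p).ι ≫ t ≫ l = (t ⁻¹ᵁ W p).ι ≫ a
    rw [← morphismRestrict_ι_assoc, hl, (hL p).1]
  · refine 𝒰.hom_ext _ _ fun p ↦ ?_
    change (W p).ι ≫ l ≫ f = (W p).ι ≫ b
    rw [← Category.assoc, hl, (hL p).2]
  · rintro m ⟨h1, h2⟩
    refine 𝒰.hom_ext _ _ fun p ↦ ?_
    change (W p).ι ≫ m = (W p).ι ≫ l
    rw [hl]
    refine hLu p _ ⟨?_, ?_⟩
    · rw [morphismRestrict_ι_assoc, h1]
    · rw [Category.assoc, h2]

/-- The lifting statement on a ring with a square zero ideal. -/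
def AffineLift (a : T ⟶ X) (b : T' ⟶ S) (f : X ⟶ S) (t : T ⟶ T') : Prop :=
  ∃! l : T' ⟶ X, t ≫ l = a ∧ l ≫ f = b

/-- For a closed immersion with square zero kernel, an affine open of the target is a ring with a square zero
ideal: it suffices to lift for those. -/
theorem existsUnique_isLiftOn [IsClosedImmersion t] (ht : t.ker * t.ker = ⊥) (w : t ≫ b = a ≫ f)
    (W : T'.Opens) (hW : IsAffineOpen W)
    (H : ∀ (A : Type u) [CommRing A] (I : Ideal A), I ^ 2 = ⊥ →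
      ∀ (a' : Spec (CommRingCat.of (A ⧸ I)) ⟶ X) (b' : Spec (CommRingCat.of A) ⟶ S),
        Spec.map (CommRingCat.ofHom (Ideal.Quotient.mk I)) ≫ b' = a' ≫ f →
        Set.range a' ⊆ a '' (t ⁻¹' (W : Set T')) →
        AffineLift a' b' f (Spec.map (CommRingCat.ofHom (Ideal.Quotient.mk I)))) :
    ∃! l, IsLiftOn f t a b W l := by
  have hW' : IsAffineOpen (t ⁻¹ᵁ W) := hW.preimage t
  let φ : Γ(T', W) ⟶ Γ(T, t ⁻¹ᵁ W) := t.app W
  have hφs : Function.Surjective φ := t.app_surjective W hW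
  have hI : (RingHom.ker φ.hom) ^ 2 = ⊥ := by
    have h2 := congr_fun (congr_arg Scheme.IdealSheafData.ideal ht) ⟨W, hW⟩
    simp only [Scheme.IdealSheafData.ideal_mul, Pi.mul_apply, Scheme.IdealSheafData.ideal_bot,
      Pi.bot_apply, Scheme.Hom.ker_apply] at h2
    rwa [pow_two]
  let e : Γ(T', W) ⧸ RingHom.ker φ.hom ≃+* Γ(T, t ⁻¹ᵁ W) := RingHom.quotientKerEquivOfSurjective hφs
  let eS : Spec Γ(T, t ⁻¹ᵁ W) ⟶ Spec (CommRingCat.of (Γ(T', W) ⧸ RingHom.ker φ.hom)) :=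
    Spec.map (e.toCommRingCatIso.hom)
  have heS : eS ≫ Spec.map (CommRingCat.ofHom (Ideal.Quotient.mk (RingHom.ker φ.hom))) = Spec.map φ := by
    rw [← Spec.map_comp]
    congr 1
  haveI : IsIso eS := by infer_instance
  have hsq : Spec.map φ ≫ hW.fromSpec = hW'.fromSpec ≫ t := by
    rw [← IsAffineOpen.SpecMap_appLE_fromSpec t hW hW' le_rfl, ← Scheme.Hom.app_eq_appLE]
  have hres : hW'.isoSpec.hom ≫ Spec.map φ = (t ∣_ W) ≫ hW.isoSpec.hom := by
    rw [← cancel_mono hW.fromSpec, Category.assoc, hsq, Category.assoc,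
      IsAffineOpen.isoSpec_hom_fromSpec, IsAffineOpen.isoSpec_hom_fromSpec_assoc, morphismRestrict_ι]
  let a' : Spec (CommRingCat.of (Γ(T', W) ⧸ RingHom.ker φ.hom)) ⟶ X := inv eS ≫ hW'.fromSpec ≫ a
  let b' : Spec (CommRingCat.of Γ(T', W)) ⟶ S := hW.fromSpec ≫ b
  have w' : Spec.map (CommRingCat.ofHom (Ideal.Quotient.mk (RingHom.ker φ.hom))) ≫ b' = a' ≫ f := by
    simp only [a', Category.assoc, IsIso.eq_inv_comp]
    rw [reassoc_of% heS, reassoc_of% hsq, w]
  have hr : Set.range a' ⊆ a '' (t ⁻¹' (W : Set T')) := by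
    rintro _ ⟨q, rfl⟩
    refine ⟨hW'.fromSpec (inv eS q), ?_, rfl⟩
    show hW'.fromSpec (inv eS q) ∈ t ⁻¹ᵁ W
    exact hW'.range_fromSpec.le (Set.mem_range_self _)
  have key : ∀ l : (W : Scheme.{u}) ⟶ X, IsLiftOn f t a b W l ↔
      Spec.map (CommRingCat.ofHom (Ideal.Quotient.mk (RingHom.ker φ.hom))) ≫ hW.isoSpec.inv ≫ l = a' ∧
        (hW.isoSpec.inv ≫ l) ≫ f = b' := by
    intro l
    refine and_congr ?_ ?_
    · simp only [a', IsIso.eq_inv_comp]
      rw [reassoc_of% heS, ← cancel_epi hW'.isoSpec.hom, reassoc_of% hres, Iso.hom_inv_id_assoc,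
        IsAffineOpen.isoSpec_hom_fromSpec_assoc]
    · simp only [b']
      rw [Category.assoc, Iso.inv_comp_eq, IsAffineOpen.isoSpec_hom_fromSpec_assoc]
  obtain ⟨l, hl, hu⟩ := H Γ(T', W) (RingHom.ker φ.hom) hI a' b' w' hr
  refine ⟨hW.isoSpec.hom ≫ l, (key _).mpr ?_, fun m hm ↦ ?_⟩
  · simpa using hl
  · rw [← hu _ ((key m).mp hm), Iso.hom_inv_id_assoc]

/-- Lifts into an affine open over an affine open, from formal etaleness of the ring map. -/
theorem affineLift_of_formallyEtale (U : X.Opens) (V : S.Opens) (hU : IsAffineOpen U) (hV : IsAffineOpen V)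
    (hUV : U ≤ f ⁻¹ᵁ V)
    (h : letI := (f.appLE V U hUV).hom.toAlgebra; Algebra.FormallyEtale Γ(S, V) Γ(X, U))
    (A : Type u) [CommRing A] (I : Ideal A) (hI : I ^ 2 = ⊥)
    (a' : Spec (CommRingCat.of (A ⧸ I)) ⟶ X) (b' : Spec (CommRingCat.of A) ⟶ S)
    (w' : Spec.map (CommRingCat.ofHom (Ideal.Quotient.mk I)) ≫ b' = a' ≫ f)
    (hr : Set.range a' ⊆ U) :
    AffineLift a' b' f (Spec.map (CommRingCat.ofHom (Ideal.Quotient.mk I))) := by
  let _ := (f.appLE V U hUV).hom.toAlgebra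
  have hs : Function.Surjective (Spec.map (CommRingCat.ofHom (Ideal.Quotient.mk I))) := by
    intro p
    refine ⟨⟨p.asIdeal.map (Ideal.Quotient.mk I), ?_⟩, ?_⟩
    · exact Ideal.map_isPrime_of_surjective Ideal.Quotient.mk_surjective
        (by rw [Ideal.mk_ker]; exact (Ideal.IsPrime.pow_le_iff two_ne_zero).mp (hI.le.trans bot_le))
    · apply PrimeSpectrum.ext
      show Ideal.comap (Ideal.Quotient.mk I) (p.asIdeal.map _) = p.asIdeal
      rw [Ideal.comap_map_of_surjective' _ Ideal.Quotient.mk_surjective, Ideal.mk_ker, sup_eq_left]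
      exact (Ideal.IsPrime.pow_le_iff two_ne_zero).mp (hI.le.trans bot_le)
  have hb : Set.range b' ⊆ V := by
    rintro _ ⟨p, rfl⟩
    obtain ⟨q, rfl⟩ := hs p
    rw [← Scheme.Hom.comp_apply, w', Scheme.Hom.comp_apply]
    exact hUV (hr ⟨q, rfl⟩)
  obtain ⟨α, hα⟩ := Spec.map_surjective (IsOpenImmersion.lift hU.fromSpec a' (by rwa [hU.range_fromSpec]))
  obtain ⟨β, hβ⟩ := Spec.map_surjective (IsOpenImmersion.lift hV.fromSpec b' (by rwa [hV.range_fromSpec]))
  have ha : Spec.map α ≫ hU.fromSpec = a' := by rw [hα, IsOpenImmersion.lift_fac]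
  have hb' : Spec.map β ≫ hV.fromSpec = b' := by rw [hβ, IsOpenImmersion.lift_fac]
  have hsq : f.appLE V U hUV ≫ α = β ≫ CommRingCat.ofHom (Ideal.Quotient.mk I) := by
    apply Spec.map_injective
    rw [Spec.map_comp, Spec.map_comp, ← cancel_mono hV.fromSpec, Category.assoc, Category.assoc,
      IsAffineOpen.SpecMap_appLE_fromSpec f hV hU hUV, reassoc_of% ha, hb', w']
  letI : Algebra Γ(S, V) A := β.hom.toAlgebra
  let α' : Γ(X, U) →ₐ[Γ(S, V)] A ⧸ I :=
    { α.hom with commutes' := fun r ↦ congr($(hsq).hom r) }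
  obtain ⟨γ, hγ⟩ := (Algebra.FormallyEtale.comp_bijective Γ(S, V) Γ(X, U) I hI).2 α'
  refine ⟨Spec.map (CommRingCat.ofHom γ.toRingHom) ≫ hU.fromSpec, ⟨?_, ?_⟩, ?_⟩
  · rw [← Category.assoc, ← Spec.map_comp, ← ha]
    congr 2
    ext x
    exact congr($hγ x)
  · rw [Category.assoc, ← IsAffineOpen.SpecMap_appLE_fromSpec f hV hU hUV, ← Category.assoc,
      ← Spec.map_comp, ← hb']
    congr 2
    ext x
    exact γ.commutes x
  · rintro m ⟨h1, h2⟩
    have hm : Set.range m ⊆ U := by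
      rintro _ ⟨p, rfl⟩
      obtain ⟨q, rfl⟩ := hs p
      rw [← Scheme.Hom.comp_apply, h1]
      exact hr ⟨q, rfl⟩
    obtain ⟨δ, hδ⟩ := Spec.map_surjective (IsOpenImmersion.lift hU.fromSpec m (by rwa [hU.range_fromSpec]))
    have hm' : Spec.map δ ≫ hU.fromSpec = m := by rw [hδ, IsOpenImmersion.lift_fac]
    have hδ1 : f.appLE V U hUV ≫ δ = β := by
      apply Spec.map_injective
      rw [Spec.map_comp, ← cancel_mono hV.fromSpec, Category.assoc,
        IsAffineOpen.SpecMap_appLE_fromSpec f hV hU hUV, reassoc_of% hm', h2, hb']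
    let δ' : Γ(X, U) →ₐ[Γ(S, V)] A := { δ.hom with commutes' := fun r ↦ congr($(hδ1).hom r) }
    have hδ2 : δ ≫ CommRingCat.ofHom (Ideal.Quotient.mk I) = α := by
      apply Spec.map_injective
      rw [Spec.map_comp, ← cancel_mono hU.fromSpec, Category.assoc, hm', h1, ha]
    have : δ' = γ := by
      apply (Algebra.FormallyEtale.comp_bijective Γ(S, V) Γ(X, U) I hI).1
      rw [hγ]
      ext x
      exact congr($(hδ2).hom x)
    rw [← hm']
    congr 2
    ext x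
    exact congr($this x)

end Groth.Agent.InfLift.Glue
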