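import Groth.Prelude.Def_MoreMor
import Groth.Agent.InfLift.Glue

/-! Formally etale morphisms (lifting property) and affine opens. -/

universe u

open AlgebraicGeometry CategoryTheory Limits

namespace Groth.Agent.InfLift.Etale

open Groth.Agent.InfLift.Glue

variable {X S : Scheme.{u}} {f : X ⟶ S}

theorem isFormallyEtaleHom_of_local
    (H : ∀ x : X, ∃ (U : X.Opens) (V : S.Opens) (hU : IsAffineOpen U) (hV : IsAffineOpen V) (hUV : U ≤ f ⁻¹ᵁ V),
      x ∈ U ∧ (letI := (f.appLE V U hUV).hom.toAlgebra; Algebra.FormallyEtale Γ(S, V) Γ(X, U))) :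
    MoreMor.IsFormallyEtaleHom f := by
  intro A _ I hI a b w
  let t := Spec.map (CommRingCat.ofHom (Ideal.Quotient.mk I))
  have hcl : IsClosedImmersion t := IsClosedImmersion.spec_of_surjective _ Ideal.Quotient.mk_surjective
  have hker : t.ker * t.ker = ⊥ := by
    apply Scheme.IdealSheafData.ext_of_isAffine
    have hnat := Scheme.ΓSpecIso_naturality (CommRingCat.ofHom (Ideal.Quotient.mk I))
    simp only [Scheme.IdealSheafData.ideal_mul, Pi.mul_apply, Scheme.IdealSheafData.ideal_bot,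
      Pi.bot_apply, Scheme.Hom.ker_apply]
    rw [eq_bot_iff]
    refine Ideal.mul_le.mpr fun x hx y hy ↦ ?_
    have hmem : ∀ z, z ∈ RingHom.ker (t.app ⊤).hom →
        (Scheme.ΓSpecIso (CommRingCat.of A)).hom.hom z ∈ I := by
      intro z hz
      rw [← Ideal.Quotient.eq_zero_iff_mem]
      have := congr($(hnat).hom z)
      simp only [CommRingCat.hom_comp, RingHom.comp_apply, CommRingCat.hom_ofHom] at this
      rw [← this]
      exact (congr_arg _ (RingHom.mem_ker.mp hz)).trans (map_zero _)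
    have h0 : (Scheme.ΓSpecIso (CommRingCat.of A)).hom.hom (x * y) = 0 := by
      rw [map_mul, ← Ideal.mem_bot, ← hI, pow_two]
      exact Ideal.mul_mem_mul (hmem x hx) (hmem y hy)
    rw [Ideal.mem_bot]
    exact (Scheme.ΓSpecIso (CommRingCat.of A)).commRingCatIsoToRingEquiv.injective (h0.trans (map_zero _).symm)
  have hs : ∀ p : Spec (CommRingCat.of A), ∃ q, t q = p := by
    intro p
    have hle : I ≤ p.asIdeal := (Ideal.IsPrime.pow_le_iff two_ne_zero).mp (hI.le.trans bot_le)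
    refine ⟨⟨p.asIdeal.map (Ideal.Quotient.mk I),
      Ideal.map_isPrime_of_surjective Ideal.Quotient.mk_surjective (by rwa [Ideal.mk_ker])⟩, ?_⟩
    apply PrimeSpectrum.ext
    show Ideal.comap (Ideal.Quotient.mk I) (p.asIdeal.map _) = p.asIdeal
    rw [Ideal.comap_map_of_surjective' _ Ideal.Quotient.mk_surjective, Ideal.mk_ker, sup_eq_left]
    exact hle
  refine existsUnique_lift_of_local w (fun W ↦ ∃ (U : X.Opens) (V : S.Opens) (hU : IsAffineOpen U)
      (hV : IsAffineOpen V) (hUV : U ≤ f ⁻¹ᵁ V), a '' (t ⁻¹' W) ⊆ U ∧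
        (letI := (f.appLE V U hUV).hom.toAlgebra; Algebra.FormallyEtale Γ(S, V) Γ(X, U)))
    (fun W W' hle ⟨U, V, hU, hV, hUV, hWU, h⟩ ↦
      ⟨U, V, hU, hV, hUV, fun _ ⟨z, hz, hzx⟩ ↦ hzx ▸ hWU ⟨z, hle hz, rfl⟩, h⟩) ?_ ?_
  · intro p
    obtain ⟨q, rfl⟩ := hs p
    obtain ⟨U, V, hU, hV, hUV, hx, h⟩ := H (a q)
    obtain ⟨O, hO, hOq⟩ := t.isClosedEmbedding.isInducing.isOpen_iff.mp (a ⁻¹ᵁ U).isOpen
    have hqO : t q ∈ O := (Set.ext_iff.mp hOq q).mpr hx
    obtain ⟨W, hW, hpW, hWO⟩ :=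
      exists_isAffineOpen_mem_and_subset (X := Spec (CommRingCat.of A)) (x := t q) (U := ⟨O, hO⟩) hqO
    refine ⟨W, hW, hpW, U, V, hU, hV, hUV, ?_, h⟩
    rintro _ ⟨z, hz, rfl⟩
    exact (Set.ext_iff.mp hOq z).mp (hWO hz)
  · rintro W hW ⟨U, V, hU, hV, hUV, hWU, h⟩
    exact existsUnique_isLiftOn hker w W hW fun A' _ I' hI' a' b' w' hr ↦
      affineLift_of_formallyEtale U V hU hV hUV h A' I' hI' a' b' w' (hr.trans hWU)

theorem formallyEtale_appLE_of_isFormallyEtaleHom (hf : MoreMor.IsFormallyEtaleHom f)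
    (U : X.Opens) (V : S.Opens) (hU : IsAffineOpen U) (hV : IsAffineOpen V) (hUV : U ≤ f ⁻¹ᵁ V) :
    letI := (f.appLE V U hUV).hom.toAlgebra
    Algebra.FormallyEtale Γ(S, V) Γ(X, U) := by
  let _ := (f.appLE V U hUV).hom.toAlgebra
  rw [Algebra.FormallyEtale.iff_comp_bijective]
  intro B _ _ I hI
  let π := CommRingCat.ofHom (Ideal.Quotient.mk I)
  have hs : ∀ p : Spec (CommRingCat.of B), ∃ q, Spec.map π q = p := by
    intro p
    have hle : I ≤ p.asIdeal := (Ideal.IsPrime.pow_le_iff two_ne_zero).mp (hI.le.trans bot_le)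
    refine ⟨⟨p.asIdeal.map (Ideal.Quotient.mk I),
      Ideal.map_isPrime_of_surjective Ideal.Quotient.mk_surjective (by rwa [Ideal.mk_ker])⟩, ?_⟩
    apply PrimeSpectrum.ext
    show Ideal.comap (Ideal.Quotient.mk I) (p.asIdeal.map _) = p.asIdeal
    rw [Ideal.comap_map_of_surjective' _ Ideal.Quotient.mk_surjective, Ideal.mk_ker, sup_eq_left]
    exact hle
  let b : Spec (CommRingCat.of B) ⟶ S :=
    Spec.map (CommRingCat.ofHom (algebraMap Γ(S, V) B)) ≫ hV.fromSpec
  have hb : ∀ γ : Γ(X, U) →ₐ[Γ(S, V)] B,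
      (Spec.map (CommRingCat.ofHom γ.toRingHom) ≫ hU.fromSpec) ≫ f = b := by
    intro γ
    rw [Category.assoc, ← IsAffineOpen.SpecMap_appLE_fromSpec f hV hU hUV, ← Category.assoc, ← Spec.map_comp]
    congr 2
    ext x
    exact γ.commutes x
  constructor
  · intro γ₁ γ₂ h
    let a : Spec (CommRingCat.of (B ⧸ I)) ⟶ X :=
      Spec.map (CommRingCat.ofHom ((Ideal.Quotient.mkₐ Γ(S, V) I).comp γ₁).toRingHom) ≫ hU.fromSpec
    have h1 : ∀ γ : Γ(X, U) →ₐ[Γ(S, V)] B,
        (Ideal.Quotient.mkₐ Γ(S, V) I).comp γ = (Ideal.Quotient.mkₐ Γ(S, V) I).comp γ₁ →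
        Spec.map π ≫ Spec.map (CommRingCat.ofHom γ.toRingHom) ≫ hU.fromSpec = a := by
      intro γ hγ
      rw [← Category.assoc, ← Spec.map_comp]
      simp only [a]
      congr 2
      ext x
      exact congr($hγ x)
    have w : Spec.map π ≫ b = a ≫ f := by rw [← hb γ₁, ← h1 γ₁ rfl]; simp only [Category.assoc]
    have := (hf B I hI a b w).unique ⟨h1 γ₁ rfl, hb γ₁⟩ ⟨h1 γ₂ h.symm, hb γ₂⟩
    rw [cancel_mono] at this
    ext x
    exact congr($(Spec.map_injective this).hom x)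
  · intro α
    let a : Spec (CommRingCat.of (B ⧸ I)) ⟶ X :=
      Spec.map (CommRingCat.ofHom α.toRingHom) ≫ hU.fromSpec
    have w : Spec.map π ≫ b = a ≫ f := by
      simp only [a, b, Category.assoc]
      rw [← IsAffineOpen.SpecMap_appLE_fromSpec f hV hU hUV, ← Category.assoc, ← Category.assoc,
        ← Spec.map_comp, ← Spec.map_comp]
      congr 2
      ext x
      exact (α.commutes x).symm
    obtain ⟨l, ⟨hl1, hl2⟩, -⟩ := hf B I hI a b w
    have hlU : Set.range l ⊆ U := by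
      rintro _ ⟨p, rfl⟩
      obtain ⟨q, rfl⟩ := hs p
      rw [← Scheme.Hom.comp_apply, hl1]
      exact hU.range_fromSpec.le ⟨_, rfl⟩
    obtain ⟨γ, hγ⟩ := Spec.map_surjective (IsOpenImmersion.lift hU.fromSpec l (by rwa [hU.range_fromSpec]))
    have hγl : Spec.map γ ≫ hU.fromSpec = l := by rw [hγ, IsOpenImmersion.lift_fac]
    have hγR : f.appLE V U hUV ≫ γ = CommRingCat.ofHom (algebraMap Γ(S, V) B) := by
      apply Spec.map_injective
      rw [Spec.map_comp, ← cancel_mono hV.fromSpec, Category.assoc,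
        IsAffineOpen.SpecMap_appLE_fromSpec f hV hU hUV, reassoc_of% hγl, hl2]
    refine ⟨{ γ.hom with commutes' := fun r ↦ congr($(hγR).hom r) }, ?_⟩
    have : γ ≫ π = CommRingCat.ofHom α.toRingHom := by
      apply Spec.map_injective
      rw [Spec.map_comp, ← cancel_mono hU.fromSpec, Category.assoc, hγl]
      exact hl1
    ext x
    exact congr($(this).hom x)

end Groth.Agent.InfLift.Etale
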