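/-
Retractions of square zero extensions from local retractions, when the cotangent space is finitely
presented (helper24).
-/
import Mathlib.RingTheory.Kaehler.Basic
import Mathlib.Algebra.TrivSqZeroExt.Basic
import Mathlib.RingTheory.TensorProduct.Basic
import Mathlib.Algebra.Module.FinitePresentation
import Mathlib.RingTheory.Localization.Away.Basic
import Mathlib.RingTheory.Localization.Ideal
import Mathlib.RingTheory.Spectrum.Prime.Basic
import Mathlib.RingTheory.Ideal.Quotient.Operations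
import Mathlib.Tactic.LinearCombination
import Mathlib.Tactic.Abel

set_option autoImplicit false
universe u
open TensorProduct TrivSqZeroExt KaehlerDifferential

namespace Groth.Agent.InfLift.RetractFP

section Der

variable {Λ C A₁ : Type u} [CommRing Λ] [CommRing C] [CommRing A₁] [Algebra Λ C] [Algebra C A₁]

theorem isCentralScalar_tensor : IsCentralScalar A₁ (A₁ ⊗[C] Ω[C⁄Λ]) := ⟨fun c x ↦ by
  induction x with
  | zero => simp
  | tmul t y => simp [TensorProduct.smul_tmul', op_smul_eq_mul, mul_comm]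
  | add x y hx hy => simp [smul_add, hx, hy]⟩

theorem ext_D {M : Type u} [AddCommGroup M] [Module A₁ M] {f g : (A₁ ⊗[C] Ω[C⁄Λ]) →ₗ[A₁] M}
    (h : ∀ c, f (1 ⊗ₜ D Λ C c) = g (1 ⊗ₜ D Λ C c)) : f = g := by
  refine LinearMap.ext fun x ↦ ?_
  induction x with
  | zero => simp
  | add x y hx hy => rw [map_add, map_add, hx, hy]
  | tmul t w =>
    have hw : w ∈ Submodule.span C (Set.range (D Λ C)) := by simp [span_range_derivation]
    induction hw using Submodule.span_induction generalizing t with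
    | mem w hw =>
      obtain ⟨c, rfl⟩ := hw
      rw [show t ⊗ₜ[C] D Λ C c = t • ((1 : A₁) ⊗ₜ[C] D Λ C c) by
        rw [TensorProduct.smul_tmul', smul_eq_mul, mul_one], map_smul, map_smul, h]
    | zero => simp
    | add w w' _ _ hw hw' => rw [TensorProduct.tmul_add, map_add, map_add, hw, hw']
    | smul c w _ hw => rw [← TensorProduct.smul_tmul, hw]

variable [Algebra Λ A₁] [IsScalarTower Λ C A₁]

theorem exists_derLin {M : Type u} [AddCommGroup M] [Module A₁ M] [Module A₁ᵐᵒᵖ M]
    [IsCentralScalar A₁ M] (γ : C →+* TrivSqZeroExt A₁ M) (hfst : ∀ c, (γ c).fst = algebraMap C A₁ c)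
    (hΛ : ∀ l, γ (algebraMap Λ C l) = inl (algebraMap Λ A₁ l)) :
    ∃ u : (A₁ ⊗[C] Ω[C⁄Λ]) →ₗ[A₁] M, ∀ c, u (1 ⊗ₜ D Λ C c) = (γ c).snd := by
  let _ : Module C M := Module.compHom M (algebraMap C A₁)
  let _ : Module Λ M := Module.compHom M (algebraMap Λ A₁)
  have : IsScalarTower C A₁ M := ⟨fun c a m ↦ by
    show (c • a) • m = algebraMap C A₁ c • a • m
    rw [Algebra.smul_def, mul_smul]⟩
  have : IsScalarTower Λ C M := ⟨fun l c m ↦ by
    show algebraMap C A₁ (l • c) • m = algebraMap Λ A₁ l • algebraMap C A₁ c • m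
    rw [Algebra.smul_def, map_mul, ← IsScalarTower.algebraMap_apply, mul_smul]⟩
  let D' : Derivation Λ C M :=
    Derivation.mk'
      { toFun := fun c ↦ (γ c).snd
        map_add' := fun x y ↦ by rw [map_add, snd_add]
        map_smul' := fun l c ↦ by
          rw [Algebra.smul_def, map_mul, snd_mul, hΛ, fst_inl, snd_inl, smul_zero, add_zero]
          rfl }
      fun x y ↦ by
        change (γ (x * y)).snd = x • (γ y).snd + y • (γ x).snd
        rw [map_mul, snd_mul, hfst, hfst, op_smul_eq_smul]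
        rfl
  refine ⟨LinearMap.liftBaseChange A₁ D'.liftKaehlerDifferential, fun c ↦ ?_⟩
  rw [LinearMap.liftBaseChange_tmul, one_smul, Derivation.liftKaehlerDifferential_comp_D]
  rfl

variable (Λ C A₁) in
/-- The universal trivial square zero extension. -/
theorem exists_univExt [IsCentralScalar A₁ (A₁ ⊗[C] Ω[C⁄Λ])] :
    ∃ θ : C →+* TrivSqZeroExt A₁ (A₁ ⊗[C] Ω[C⁄Λ]), (∀ c, (θ c).fst = algebraMap C A₁ c) ∧
      (∀ c, (θ c).snd = 1 ⊗ₜ D Λ C c) ∧ ∀ l, θ (algebraMap Λ C l) = inl (algebraMap Λ A₁ l) := by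
  refine ⟨{ toFun := fun c ↦ inl (algebraMap C A₁ c) + inr (1 ⊗ₜ D Λ C c)
            map_one' := by ext <;> simp
            map_mul' := fun x y ↦ by
              ext
              · simp
              · simp [TensorProduct.tmul_add, op_smul_eq_smul]
            map_zero' := by ext <;> simp
            map_add' := fun x y ↦ by ext <;> simp [TensorProduct.tmul_add] },
    fun c ↦ by simp, fun c ↦ by simp, fun l ↦ ?_⟩
  ext
  · simp [← IsScalarTower.algebraMap_apply]
  · simp

end Der

variable {A B : Type u} [CommRing A] [CommRing B] [Algebra A B] {I : Ideal A}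

/-- If the square zero extension `B → A ⧸ I` has finitely presented cotangent space and has
retractions locally on `A`, then it has one globally. -/
theorem exists_retraction (hI : I ^ 2 = ⊥) (ρ : B →ₐ[A] A ⧸ I)
    (hC : ∀ x y, ρ x = 0 → ρ y = 0 → x * y = 0)
    (hfp : letI := ρ.toRingHom.toAlgebra; Module.FinitePresentation (A ⧸ I) ((A ⧸ I) ⊗[B] Ω[B⁄A]))
    (hloc : ∀ p : PrimeSpectrum A, ∃ g ∉ p.asIdeal, ∃ r : B →ₐ[A] Localization.Away g,
      ∀ x, ρ x = 0 → r x ∈ I.map (algebraMap A (Localization.Away g))) :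
    ∃ r : B →ₐ[A] A, ∀ b, Ideal.Quotient.mk I (r b) = ρ b := by
  classical
  let _ : Algebra B (A ⧸ I) := ρ.toRingHom.toAlgebra
  have : IsScalarTower A B (A ⧸ I) := IsScalarTower.of_algebraMap_eq fun r ↦ (ρ.commutes r).symm
  have hfp' : Module.FinitePresentation (A ⧸ I) ((A ⧸ I) ⊗[B] Ω[B⁄A]) := hfp
  have hII : ∀ i j, i ∈ I → j ∈ I → i * j = 0 := fun i j hi hj ↦ by
    rw [← Ideal.mem_bot, ← hI, pow_two]
    exact Ideal.mul_mem_mul hi hj
  have hρI : ∀ i ∈ I, ρ (algebraMap A B i) = 0 := fun i hi ↦ by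
    rw [ρ.commutes]; exact Ideal.Quotient.eq_zero_iff_mem.mpr hi
  let K : Submodule A B := LinearMap.ker ρ.toLinearMap
  have hK : ∀ x, x ∈ K ↔ ρ x = 0 := fun x ↦ Iff.rfl
  let P := (A ⧸ I) ⊗[B] Ω[B⁄A]
  let δ : B → P := fun b ↦ 1 ⊗ₜ D A B b
  have hδadd : ∀ x y, δ (x + y) = δ x + δ y := fun x y ↦ by simp [δ, TensorProduct.tmul_add]
  have hδalg : ∀ a, δ (algebraMap A B a) = 0 := fun a ↦ by simp [δ]
  have hδsmul : ∀ (a : A) x, δ (a • x) = Ideal.Quotient.mk I a • δ x := fun a x ↦ by
    simp only [δ, Algebra.smul_def, Derivation.leibniz, Derivation.map_algebraMap, smul_zero,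
      add_zero]
    rw [← TensorProduct.smul_tmul, TensorProduct.smul_tmul' (Ideal.Quotient.mk I a)]
    congr 1
    rw [Algebra.smul_def, smul_eq_mul]
    exact congr_arg (· * 1) (ρ.commutes a)
  -- kernel of `δ` on `K`
  have hker : ∀ x ∈ K, δ x = 0 → ∃ i ∈ I, algebraMap A B i = x := by
    intro x hx hδx
    let J : Ideal B := I.map (algebraMap A B)
    let _ : Module (A ⧸ I)ᵐᵒᵖ (B ⧸ J) :=
      Module.compHom _ ((RingHom.id (A ⧸ I)).fromOpposite fun _ _ ↦ Commute.all _ _)
    have : IsCentralScalar (A ⧸ I) (B ⧸ J) := ⟨fun _ _ ↦ rfl⟩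
    let σ : A ⧸ I →+* B ⧸ J := algebraMap (A ⧸ I) (B ⧸ J)
    have hσ : ∀ a, σ (Ideal.Quotient.mk I a) = Ideal.Quotient.mk J (algebraMap A B a) := fun a ↦ rfl
    have hdiff : ∀ b, ∃ k ∈ K, Ideal.Quotient.mk J b - σ (ρ b) = Ideal.Quotient.mk J k := by
      intro b
      obtain ⟨a, ha⟩ := Ideal.Quotient.mk_surjective (ρ b)
      refine ⟨b - algebraMap A B a, ?_, ?_⟩
      · rw [hK, map_sub, ρ.commutes, Ideal.Quotient.algebraMap_eq, ha, sub_self]
      · rw [← ha, hσ, map_sub]
    have hmul : ∀ b b', (Ideal.Quotient.mk J b - σ (ρ b)) * (Ideal.Quotient.mk J b' - σ (ρ b')) = 0 := by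
      intro b b'
      obtain ⟨k, hk, e⟩ := hdiff b
      obtain ⟨k', hk', e'⟩ := hdiff b'
      rw [e, e', ← map_mul, hC k k' hk hk', map_zero]
    let γ : B →+* TrivSqZeroExt (A ⧸ I) (B ⧸ J) :=
      { toFun := fun b ↦ inl (ρ b) + inr (Ideal.Quotient.mk J b - σ (ρ b))
        map_one' := by ext <;> simp
        map_mul' := fun b b' ↦ by
          ext
          · simp
          · simp only [snd_add, snd_inl, snd_inr, zero_add, snd_mul, fst_add, fst_inl, fst_inr,
              add_zero, op_smul_eq_smul, map_mul, Algebra.smul_def]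
            linear_combination hmul b b'
        map_zero' := by ext <;> simp
        map_add' := fun b b' ↦ by
          ext
          · simp
          · simp only [snd_add, snd_inl, snd_inr, zero_add, map_add]
            abel }
    obtain ⟨u, hu⟩ := exists_derLin (Λ := A) γ (fun c ↦ by simp [γ]; rfl) fun a ↦ by
      ext
      · simp [γ]
      · simp [γ, ← hσ]
    have h0 : Ideal.Quotient.mk J x = 0 := by
      have := hu x
      rw [show (1 : A ⧸ I) ⊗ₜ[B] D A B x = δ x from rfl, hδx, map_zero] at this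
      simpa [γ, (hK x).1 hx] using this.symm
    have hJ : ∀ y ∈ J, ∃ i ∈ I, algebraMap A B i = y := by
      intro y hy
      induction hy using Submodule.span_induction with
      | mem y hy => obtain ⟨i, hi, rfl⟩ := hy; exact ⟨i, hi, rfl⟩
      | zero => exact ⟨0, zero_mem _, map_zero _⟩
      | add y y' _ _ h h' =>
        obtain ⟨i, hi, rfl⟩ := h
        obtain ⟨j, hj, rfl⟩ := h'
        exact ⟨i + j, add_mem hi hj, map_add _ _ _⟩
      | smul b y _ h =>
        obtain ⟨i, hi, rfl⟩ := h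
        obtain ⟨a, ha⟩ := Ideal.Quotient.mk_surjective (ρ b)
        refine ⟨a * i, I.mul_mem_left a hi, ?_⟩
        have h1 : (b - algebraMap A B a) * algebraMap A B i = 0 :=
          hC _ _ (by rw [map_sub, ρ.commutes, Ideal.Quotient.algebraMap_eq, ha, sub_self]) (hρI i hi)
        rw [map_mul, smul_eq_mul]
        linear_combination -h1
    exact hJ x (Ideal.Quotient.eq_zero_iff_mem.mp h0)
  -- injectivity on `I`
  choose gp hgp rp hrp using hloc
  have hinj : ∀ i : A, algebraMap A B i = 0 → i = 0 := by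
    intro i hi
    by_contra hi0
    have hne : (Submodule.span A {i}).annihilator ≠ ⊤ := fun h ↦ hi0
      ((one_smul A i).symm.trans
        ((Submodule.mem_annihilator_span_singleton i 1).mp (h ▸ Submodule.mem_top)))
    obtain ⟨m, hm, hle⟩ := Ideal.exists_le_maximal _ hne
    let p : PrimeSpectrum A := ⟨m, hm.isPrime⟩
    have h1 : algebraMap A (Localization.Away (gp p)) i = 0 := by
      rw [← (rp p).commutes, hi, map_zero]
    obtain ⟨⟨_, k, rfl⟩, hk⟩ :=
      (IsLocalization.map_eq_zero_iff (Submonoid.powers (gp p)) _ i).mp h1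
    exact hgp p (hm.isPrime.mem_of_pow_mem k
      (hle ((Submodule.mem_annihilator_span_singleton i _).mpr (by simpa [smul_eq_mul] using hk))))
  -- generators and relations
  obtain ⟨n, π, hπ⟩ := Module.Finite.exists_fin' (A ⧸ I) P
  obtain ⟨R, hR⟩ := Module.FinitePresentation.fg_ker π hπ
  have hgen : ∀ y : P, ∃ x ∈ K, δ x = y := by
    intro y
    induction y using TensorProduct.induction_on with
    | zero => exact ⟨0, zero_mem _, by simp [δ]⟩
    | add y y' h h' =>
      obtain ⟨x, hx, rfl⟩ := h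
      obtain ⟨x', hx', rfl⟩ := h'
      exact ⟨x + x', add_mem hx hx', hδadd x x'⟩
    | tmul t w =>
      have hw : w ∈ Submodule.span B (Set.range (D A B)) := by simp [span_range_derivation]
      induction hw using Submodule.span_induction generalizing t with
      | mem w hw =>
        obtain ⟨b, rfl⟩ := hw
        obtain ⟨a, ha⟩ := Ideal.Quotient.mk_surjective (ρ b)
        obtain ⟨c, rfl⟩ := Ideal.Quotient.mk_surjective t
        refine ⟨c • (b - algebraMap A B a), ?_, ?_⟩
        · rw [hK, map_smul, map_sub, ρ.commutes, Ideal.Quotient.algebraMap_eq, ha, sub_self, smul_zero]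
        · rw [hδsmul]
          show Ideal.Quotient.mk I c • δ (b - algebraMap A B a) = Ideal.Quotient.mk I c ⊗ₜ[B] D A B b
          have h1 := hδadd (b - algebraMap A B a) (algebraMap A B a)
          rw [sub_add_cancel, hδalg, add_zero] at h1
          rw [← h1, TensorProduct.smul_tmul', smul_eq_mul, mul_one]
      | zero => exact ⟨0, zero_mem _, by simp [δ]⟩
      | add w w' _ _ h h' =>
        obtain ⟨x, hx, e⟩ := h t
        obtain ⟨x', hx', e'⟩ := h' t
        exact ⟨x + x', add_mem hx hx', by rw [hδadd, e, e', TensorProduct.tmul_add]⟩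
      | smul c w _ h =>
        obtain ⟨x, hx, e⟩ := h (c • t)
        exact ⟨x, hx, e.trans (TensorProduct.smul_tmul c t w)⟩
  choose gen hgenK hgenδ using fun k ↦ hgen (π (Pi.single k 1))
  let F : (Fin n → A) →ₗ[A] B := ∑ k, (LinearMap.proj k).smulRight (gen k)
  have hF : ∀ a, F a = ∑ k, a k • gen k := fun a ↦ by simp [F]
  have hFK : ∀ a, F a ∈ K := fun a ↦ by
    rw [hF]; exact sum_mem fun k _ ↦ K.smul_mem _ (hgenK k)
  let mkv : (Fin n → A) → (Fin n → A ⧸ I) := fun a k ↦ Ideal.Quotient.mk I (a k)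
  have hδF : ∀ a, δ (F a) = π (mkv a) := by
    intro a
    have hsum : ∀ (s : Finset (Fin n)) (x : Fin n → B), δ (∑ k ∈ s, x k) = ∑ k ∈ s, δ (x k) := by
      intro s x
      simp [δ, map_sum, TensorProduct.tmul_sum]
    rw [hF, hsum, pi_eq_sum_univ' (mkv a), map_sum]
    exact Finset.sum_congr rfl fun k _ ↦ by rw [hδsmul, hgenδ, map_smul]
  have hlift : ∀ r : Fin n → A ⧸ I, ∃ a, mkv a = r := fun r ↦ by
    choose a ha using fun k ↦ Ideal.Quotient.mk_surjective (r k)
    exact ⟨a, funext ha⟩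
  choose rel hrel using hlift
  have hrelI : ∀ r ∈ R, ∃ j ∈ I, algebraMap A B j = F (rel r) := fun r hr ↦
    hker _ (hFK _) (by
      rw [hδF, hrel]
      exact (LinearMap.mem_ker (f := π)).1 (hR ▸ Submodule.subset_span hr))
  choose! jr hjrI hjr using hrelI
  -- surjection onto `K`
  let Φ : (Fin n → A) × I →ₗ[A] K :=
    (F.coprod ((Algebra.linearMap A B).comp I.subtype)).codRestrict K fun z ↦
      add_mem (hFK z.1) (hρI _ z.2.2)
  have hΦ : ∀ z, (Φ z : B) = F z.1 + algebraMap A B z.2 := fun z ↦ rfl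
  have hΦsurj : Function.Surjective Φ := by
    intro x
    obtain ⟨r, hr⟩ := hπ (δ x)
    obtain ⟨i, hi, e⟩ := hker (x.1 - F (rel r)) (sub_mem x.2 (hFK _)) (by
      have := hδadd (x.1 - F (rel r)) (F (rel r))
      rw [sub_add_cancel, hδF, hrel, hr] at this
      simpa using this)
    exact ⟨(rel r, ⟨i, hi⟩), Subtype.ext (by rw [hΦ]; linear_combination e)⟩
  -- the ideal of multipliers
  let 𝔞 : Ideal A :=
    { carrier := {a | ∃ s : K →ₗ[A] I, ∀ (i : I) (h : algebraMap A B i ∈ K),
        s ⟨algebraMap A B i, h⟩ = a • i}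
      add_mem' := fun {a b} ⟨s, hs⟩ ⟨t, ht⟩ ↦ ⟨s + t, fun i h ↦ by
        rw [LinearMap.add_apply, hs, ht, add_smul]⟩
      zero_mem' := ⟨0, fun i h ↦ by simp⟩
      smul_mem' := fun c a ⟨s, hs⟩ ↦ ⟨c • s, fun i h ↦ by
        rw [LinearMap.smul_apply, hs, smul_eq_mul, mul_smul]⟩ }
  have hnot : ∀ p : PrimeSpectrum A, ∃ a ∈ 𝔞, a ∉ p.asIdeal := by
    intro p
    let L := Localization.Away (gp p)
    let r := rp p
    have hex : ∀ k, ∃ (i : I) (s : Submonoid.powers (gp p)),
        r (gen k) * algebraMap A L s = algebraMap A L i := fun k ↦ by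
      obtain ⟨⟨i, s⟩, h⟩ :=
        (IsLocalization.mem_map_algebraMap_iff (Submonoid.powers (gp p)) L).mp (hrp p _ (hgenK k))
      exact ⟨i, s, h⟩
    choose ci sd hcs using hex
    let G : Submonoid.powers (gp p) := ∏ k, sd k
    let cv : Fin n → I := fun k ↦ ((∏ l ∈ Finset.univ.erase k, sd l : Submonoid.powers (gp p)) : A) • ci k
    have hcv : ∀ k, r (gen k) * algebraMap A L G = algebraMap A L (cv k) := fun k ↦ by
      have : (G : A) = sd k * ((∏ l ∈ Finset.univ.erase k, sd l : Submonoid.powers (gp p)) : A) := by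
        rw [← Submonoid.coe_mul, Finset.mul_prod_erase _ _ (Finset.mem_univ k)]
      rw [this, map_mul, ← mul_assoc, hcs]
      simp [cv, mul_comm]
    let Ψ₁ : (Fin n → A) →ₗ[A] I := ∑ k, (LinearMap.proj k).smulRight (cv k)
    have hΨ₁ : ∀ a, (Ψ₁ a : A) = ∑ k, a k * cv k := fun a ↦ by simp [Ψ₁]
    have hloc : ∀ a : Fin n → A, algebraMap A L (Ψ₁ a) = r (F a) * algebraMap A L G := fun a ↦ by
      rw [hΨ₁, hF, map_sum, map_sum, Finset.sum_mul]
      refine Finset.sum_congr rfl fun k _ ↦ ?_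
      rw [map_mul, ← hcv, map_smul, Algebra.smul_def]
      ring
    have hrelz : ∀ t ∈ R, ∃ h : Submonoid.powers (gp p),
        (h : A) * ((Ψ₁ (rel t) : A) - G * jr t) = 0 := by
      intro t ht
      refine (IsLocalization.map_eq_zero_iff (Submonoid.powers (gp p)) L _).mp ?_
      rw [map_sub, map_mul, hloc, ← hjr t ht, r.commutes]
      ring
    choose! hm hhm using hrelz
    let H : Submonoid.powers (gp p) := ∏ t ∈ R, hm t
    refine ⟨H * G, ?_, fun h ↦ ?_⟩
    · let Ψ : (Fin n → A) × I →ₗ[A] I :=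
        (H : A) • (Ψ₁.coprod ((G : A) • LinearMap.id))
      have hΨ : ∀ z, (Ψ z : A) = H * ((Ψ₁ z.1 : A) + G * z.2) := fun z ↦ rfl
      have hle : LinearMap.ker Φ ≤ LinearMap.ker Ψ := by
        rintro ⟨a, j⟩ haj
        have e : F a + algebraMap A B (j : A) = 0 := congr_arg Subtype.val haj
        have hmem : mkv a ∈ Submodule.span (A ⧸ I) (R : Set (Fin n → A ⧸ I)) := by
          rw [hR, LinearMap.mem_ker, ← hδF, eq_neg_of_add_eq_zero_left e, ← map_neg, hδalg]
        obtain ⟨c, -, hc⟩ := Submodule.mem_span_finset.mp hmem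
        choose lam hlam using fun t ↦ Ideal.Quotient.mk_surjective (c t)
        let err : Fin n → A := a - ∑ t ∈ R, lam t • rel t
        have herr : ∀ k, err k ∈ I := fun k ↦ by
          rw [← Ideal.Quotient.eq_zero_iff_mem]
          have h1 := congr_fun hc k
          simp only [Finset.sum_apply, Pi.smul_apply, smul_eq_mul] at h1
          simp only [err, Pi.sub_apply, Finset.sum_apply, Pi.smul_apply, smul_eq_mul, map_sub,
            map_sum, map_mul, hlam, sub_eq_zero]
          refine h1.symm.trans (Finset.sum_congr rfl fun t _ ↦ ?_)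
          exact congr_arg (c t * ·) (congr_fun (hrel t) k).symm
        have hFerr : F err = 0 := by
          rw [hF]
          refine Finset.sum_eq_zero fun k _ ↦ ?_
          rw [Algebra.smul_def]
          exact hC _ _ (hρI _ (herr k)) (hgenK k)
        have hΨerr : (Ψ₁ err : A) = 0 := by
          rw [hΨ₁]
          exact Finset.sum_eq_zero fun k _ ↦ hII _ _ (herr k) (cv k).2
        have ha : a = err + ∑ t ∈ R, lam t • rel t := by simp [err]
        have hj : (j : A) = -∑ t ∈ R, lam t * jr t := by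
          refine eq_neg_of_add_eq_zero_left (hinj _ ?_)
          rw [ha, map_add, hFerr, zero_add, map_sum] at e
          rw [map_add, map_sum, ← e, add_comm]
          refine congr_arg₂ _ (Finset.sum_congr rfl fun t ht ↦ ?_) rfl
          rw [map_mul, hjr t ht, map_smul, Algebra.smul_def]
        refine LinearMap.mem_ker.mpr (Subtype.ext ?_)
        rw [hΨ, ZeroMemClass.coe_zero]
        show (H : A) * ((Ψ₁ a : A) + G * (j : A)) = 0
        rw [ha, map_add, Submodule.coe_add, hΨerr, zero_add, map_sum, Submodule.coe_sum, hj,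
          mul_neg, Finset.mul_sum, ← sub_eq_add_neg, ← Finset.sum_sub_distrib, Finset.mul_sum]
        refine Finset.sum_eq_zero fun t ht ↦ ?_
        rw [map_smul, Submodule.coe_smul, smul_eq_mul]
        show (H : A) * _ = 0
        rw [show (H : A) = hm t * ((∏ l ∈ R.erase t, hm l : Submonoid.powers (gp p)) : A) by
          rw [← Submonoid.coe_mul, Finset.mul_prod_erase _ _ ht]]
        linear_combination ((∏ l ∈ R.erase t, hm l : Submonoid.powers (gp p)) : A) * lam t * hhm t ht
      obtain ⟨s, hs⟩ : ∃ s : K →ₗ[A] I, ∀ z, s (Φ z) = Ψ z := by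
        refine ⟨((LinearMap.ker Φ).liftQ Ψ hle).comp
          (Φ.quotKerEquivOfSurjective hΦsurj).symm.toLinearMap, fun z ↦ ?_⟩
        rw [LinearMap.comp_apply, LinearEquiv.coe_coe,
          show Φ z = Φ.quotKerEquivOfSurjective hΦsurj (Submodule.Quotient.mk z) from rfl,
          LinearEquiv.symm_apply_apply, Submodule.liftQ_apply]
      refine ⟨s, fun i h ↦ ?_⟩
      rw [show (⟨algebraMap A B i, h⟩ : K) = Φ (0, i) from Subtype.ext (by simp [hΦ]), hs]
      ext
      rw [hΨ]
      simp [mul_assoc]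
    · obtain ⟨k, hk⟩ := (H * G).2
      refine hgp p (p.isPrime.mem_of_pow_mem k ?_)
      show (fun e ↦ gp p ^ e) k ∈ p.asIdeal
      rw [hk, Submonoid.coe_mul]
      exact h
  have htop : 𝔞 = ⊤ := by
    by_contra h
    obtain ⟨m, hm, hle⟩ := Ideal.exists_le_maximal _ h
    obtain ⟨a, ha, ha'⟩ := hnot ⟨m, hm.isPrime⟩
    exact ha' (hle ha)
  obtain ⟨s, hs⟩ : (1 : A) ∈ 𝔞 := htop ▸ Submodule.mem_top
  -- the retraction
  choose sp hsp using fun b ↦ Ideal.Quotient.mk_surjective (ρ b)
  have hmemK : ∀ b a, Ideal.Quotient.mk I a = ρ b → b - algebraMap A B a ∈ K := fun b a h ↦ by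
    rw [hK, map_sub, ρ.commutes, Ideal.Quotient.algebraMap_eq, h, sub_self]
  let r : B → A := fun b ↦ sp b + s ⟨b - algebraMap A B (sp b), hmemK b _ (hsp b)⟩
  have hr : ∀ b a (h : Ideal.Quotient.mk I a = ρ b),
      r b = a + s ⟨b - algebraMap A B a, hmemK b a h⟩ := by
    intro b a h
    have hi : sp b - a ∈ I := Ideal.Quotient.eq.mp ((hsp b).trans h.symm)
    have e : (⟨b - algebraMap A B a, hmemK b a h⟩ : K) =
        ⟨b - algebraMap A B (sp b), hmemK b _ (hsp b)⟩ + ⟨algebraMap A B (sp b - a), hρI _ hi⟩ :=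
      Subtype.ext (by simp)
    rw [e, map_add, hs ⟨sp b - a, hi⟩, one_smul]
    show sp b + _ = a + (_ + (sp b - a))
    ring
  refine ⟨{ toFun := r, map_one' := ?_, map_mul' := ?_, map_zero' := ?_, map_add' := ?_,
            commutes' := ?_ }, fun b ↦ ?_⟩
  · rw [hr 1 1 (by simp)]
    rw [show (⟨1 - algebraMap A B 1, hmemK 1 1 (by simp)⟩ : K) = 0 from Subtype.ext (by simp), map_zero]
    simp
  · intro x y
    have hxy : Ideal.Quotient.mk I (sp x * sp y) = ρ (x * y) := by rw [map_mul, map_mul, hsp, hsp]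
    rw [hr _ _ hxy]
    have e : (⟨x * y - algebraMap A B (sp x * sp y), hmemK _ _ hxy⟩ : K) =
        sp x • ⟨y - algebraMap A B (sp y), hmemK y _ (hsp y)⟩ +
          sp y • ⟨x - algebraMap A B (sp x), hmemK x _ (hsp x)⟩ := Subtype.ext (by
      show x * y - algebraMap A B (sp x * sp y) = sp x • (y - algebraMap A B (sp y)) + sp y • (x - algebraMap A B (sp x))
      rw [Algebra.smul_def, Algebra.smul_def, map_mul]
      linear_combination hC _ _ (hmemK x _ (hsp x)) (hmemK y _ (hsp y)))
    rw [e, map_add, map_smul, map_smul]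
    show _ + ((sp x * _) + sp y * _) = (sp x + _) * (sp y + _)
    linear_combination -hII _ _ (s ⟨x - algebraMap A B (sp x), hmemK x _ (hsp x)⟩).2
      (s ⟨y - algebraMap A B (sp y), hmemK y _ (hsp y)⟩).2
  · rw [hr 0 0 (by simp)]
    rw [show (⟨0 - algebraMap A B 0, hmemK 0 0 (by simp)⟩ : K) = 0 from Subtype.ext (by simp), map_zero]
    simp
  · intro x y
    have hxy : Ideal.Quotient.mk I (sp x + sp y) = ρ (x + y) := by rw [map_add, map_add, hsp, hsp]
    rw [hr _ _ hxy]
    have e : (⟨x + y - algebraMap A B (sp x + sp y), hmemK _ _ hxy⟩ : K) =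
        ⟨x - algebraMap A B (sp x), hmemK x _ (hsp x)⟩ +
          ⟨y - algebraMap A B (sp y), hmemK y _ (hsp y)⟩ := Subtype.ext (by simp; ring)
    rw [e, map_add, Submodule.coe_add]
    show _ = (sp x + _) + (sp y + _)
    ring
  · intro a
    rw [hr _ a (ρ.commutes a).symm]
    rw [show (⟨algebraMap A B a - algebraMap A B a, hmemK _ a (ρ.commutes a).symm⟩ : K) = 0 from
      Subtype.ext (sub_self _), map_zero]
    simp
  · show Ideal.Quotient.mk I (r b) = ρ b
    rw [map_add, hsp, Ideal.Quotient.eq_zero_iff_mem.mpr (SetLike.coe_mem _), add_zero]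

end Groth.Agent.InfLift.RetractFP
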