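/-
Global lifts on affine first order thickenings from local lifts, for morphisms locally of finite
presentation (helper24).
-/
import Groth.Agent.InfLift.FirstNbhd
import Groth.Agent.InfLift.RetractFP
import Mathlib.AlgebraicGeometry.Morphisms.FinitePresentation
import Mathlib.RingTheory.Extension.Cotangent.Basic
import Mathlib.RingTheory.LocalProperties.FinitePresentation
import Mathlib.RingTheory.Localization.BaseChange

set_option autoImplicit false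
universe u
open CategoryTheory CategoryTheory.Limits AlgebraicGeometry TopologicalSpace TensorProduct

namespace Groth.Agent.InfLift.LocalLift

variable {X Y : Scheme.{u}} (f : X ⟶ Y) [LocallyOfFinitePresentation f] {A : Type u} [CommRing A]
  {I : Ideal A} {a₀ : Spec (CommRingCat.of (A ⧸ I)) ⟶ X} {b : Spec (CommRingCat.of A) ⟶ Y}

set_option backward.isDefEq.respectTransparency false in
/-- The cotangent space of the universal first order thickening is finitely presented. -/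
theorem finitePresentation_cotangent
    (w : Spec.map (CommRingCat.ofHom (Ideal.Quotient.mk I)) ≫ b = a₀ ≫ f)
    {B : CommRingCat.{u}} (φ : CommRingCat.of A ⟶ B) (ρ : B ⟶ CommRingCat.of (A ⧸ I))
    (z : Spec B ⟶ X) (hφρ : φ ≫ ρ = CommRingCat.ofHom (Ideal.Quotient.mk I))
    (hzf : z ≫ f = Spec.map φ ≫ b) (hρz : Spec.map ρ ≫ z = a₀)
    (huniv : ∀ (D D₀ : CommRingCat.{u}) (ψ₀ : CommRingCat.of A ⟶ D) (q : D ⟶ D₀),
        Function.Surjective q → RingHom.ker q.hom ^ 2 = ⊥ →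
        ∀ (ρ₁ : CommRingCat.of (A ⧸ I) ⟶ D₀),
        CommRingCat.ofHom (Ideal.Quotient.mk I) ≫ ρ₁ = ψ₀ ≫ q →
        ∀ m : Spec D ⟶ X, m ≫ f = Spec.map ψ₀ ≫ b →
        Spec.map q ≫ m = Spec.map ρ₁ ≫ a₀ →
        ∃! ψ : B ⟶ D, φ ≫ ψ = ψ₀ ∧ ψ ≫ q = ρ ≫ ρ₁ ∧ Spec.map ψ ≫ z = m) :
    letI := φ.hom.toAlgebra
    letI := ρ.hom.toAlgebra
    Module.FinitePresentation (A ⧸ I) ((A ⧸ I) ⊗[B] Ω[B⁄A]) := by
  let _ : Algebra A B := φ.hom.toAlgebra
  let _ : Algebra B (A ⧸ I) := ρ.hom.toAlgebra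
  have : IsScalarTower A B (A ⧸ I) :=
    IsScalarTower.of_algebraMap_eq fun r ↦ (congr($(hφρ) r)).symm
  let sset : Set (A ⧸ I) := {g | ∃ (V : Y.Opens) (U : X.Opens), IsAffineOpen V ∧ IsAffineOpen U ∧
    U ≤ f ⁻¹ᵁ V ∧ ∀ s : PrimeSpectrum (A ⧸ I), g ∉ s.asIdeal → a₀ s ∈ U}
  have hspan : Ideal.span sset = ⊤ := by
    by_contra h1
    obtain ⟨P, hP, hle⟩ := Ideal.exists_le_maximal _ h1
    let s : PrimeSpectrum (A ⧸ I) := ⟨P, hP.isPrime⟩
    obtain ⟨V, hV, hxV, -⟩ := exists_isAffineOpen_mem_and_subset (x := f (a₀ s)) (U := ⊤) trivial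
    obtain ⟨U, hU, hxU, hUV⟩ :=
      exists_isAffineOpen_mem_and_subset (x := a₀ s) (U := f ⁻¹ᵁ V) hxV
    obtain ⟨_, ⟨g, rfl⟩, hsg, hgU⟩ :=
      PrimeSpectrum.isTopologicalBasis_basic_opens.exists_subset_of_mem_open
        (show s ∈ a₀ ⁻¹' (U : Set X) from hxU) (U.isOpen.preimage a₀.continuous)
    exact hsg (hle (Ideal.subset_span ⟨V, U, hV, hU, hUV, fun s' hs' ↦ hgU hs'⟩))
  refine Module.FinitePresentation.of_localizationSpan' sset hspan
    (Rₚ := fun g : sset ↦ Localization.Away g.1)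
    (Mₚ := fun g : sset ↦ Localization.Away g.1 ⊗[A ⧸ I] ((A ⧸ I) ⊗[B] Ω[B⁄A]))
    (ϕ := fun g ↦ TensorProduct.mk (A ⧸ I) (Localization.Away g.1) _ 1) ?_
  rintro ⟨g, V, U, hV, hU, hUV, hgU⟩
  let A₁ := Localization.Away g
  have : IsScalarTower B (A ⧸ I) A₁ := inferInstance
  have : IsScalarTower A B A₁ := IsScalarTower.of_algebraMap_eq fun r ↦ by
    rw [IsScalarTower.algebraMap_apply A (A ⧸ I) A₁]
    exact congr_arg (algebraMap (A ⧸ I) A₁) (congr($(hφρ) r)).symm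
  suffices Module.FinitePresentation A₁ (A₁ ⊗[B] Ω[B⁄A]) from
    .of_equiv (TensorProduct.AlgebraTensorModule.cancelBaseChange B (A ⧸ I) A₁ A₁ Ω[B⁄A]).symm
  -- the chart
  let ρ₁ : CommRingCat.of (A ⧸ I) ⟶ CommRingCat.of A₁ := CommRingCat.ofHom (algebraMap (A ⧸ I) A₁)
  have hr₁ : Set.range (Spec.map ρ₁ ≫ a₀) ⊆ U := by
    rintro _ ⟨s, rfl⟩
    refine hgU _ fun h ↦ ?_
    exact s.isPrime.ne_top
      (Ideal.eq_top_of_isUnit_mem _ h (IsLocalization.Away.algebraMap_isUnit (S := A₁) g))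
  obtain ⟨α, hα'⟩ :=
    Spec.map_surjective (IsOpenImmersion.lift hU.fromSpec (Spec.map ρ₁ ≫ a₀) (by rwa [hU.range_fromSpec]))
  have hα : Spec.map α ≫ hU.fromSpec = Spec.map ρ₁ ≫ a₀ := by rw [hα', IsOpenImmersion.lift_fac]
  let _ : Algebra Γ(Y, V) Γ(X, U) := (f.appLE V U hUV).hom.toAlgebra
  let _ : Algebra Γ(X, U) A₁ := α.hom.toAlgebra
  let _ : Algebra Γ(Y, V) A₁ := (f.appLE V U hUV ≫ α).hom.toAlgebra
  have : IsScalarTower Γ(Y, V) Γ(X, U) A₁ := IsScalarTower.of_algebraMap_eq fun r ↦ rfl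
  have hfp : Algebra.FinitePresentation Γ(Y, V) Γ(X, U) :=
    HasRingHomProperty.appLE (P := @LocallyOfFinitePresentation) f inferInstance ⟨V, hV⟩ ⟨U, hU⟩ hUV
  let P' := A₁ ⊗[Γ(X, U)] Ω[Γ(X, U)⁄Γ(Y, V)]
  let P₁ := A₁ ⊗[B] Ω[B⁄A]
  have : IsCentralScalar A₁ (A₁ ⊗[Γ(X, U)] Ω[Γ(X, U)⁄Γ(Y, V)]) := RetractFP.isCentralScalar_tensor
  have : IsCentralScalar A₁ (A₁ ⊗[B] Ω[B⁄A]) := RetractFP.isCentralScalar_tensor
  obtain ⟨θ, hθfst, hθsnd, hθA⟩ := RetractFP.exists_univExt A B A₁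
  obtain ⟨θ', hθ'fst, hθ'snd, hθ'Λ⟩ := RetractFP.exists_univExt Γ(Y, V) Γ(X, U) A₁
  let fstC : ∀ (M : Type u) [AddCommGroup M] [Module A₁ M] [Module A₁ᵐᵒᵖ M] [IsCentralScalar A₁ M],
      CommRingCat.of (TrivSqZeroExt A₁ M) ⟶ CommRingCat.of A₁ := fun M _ _ _ _ ↦
    CommRingCat.ofHom (TrivSqZeroExt.fstHom A₁ A₁ M).toRingHom
  have hfst : ∀ (M : Type u) [AddCommGroup M] [Module A₁ M] [Module A₁ᵐᵒᵖ M] [IsCentralScalar A₁ M],
      Function.Surjective (fstC M) ∧ RingHom.ker (fstC M).hom ^ 2 = ⊥ := by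
    intro M _ _ _ _
    refine ⟨fun x ↦ ⟨TrivSqZeroExt.inl x, rfl⟩, ?_⟩
    rw [pow_two, eq_bot_iff, Ideal.mul_le]
    intro x hx y hy
    have hx' : x.fst = 0 := hx
    have hy' : y.fst = 0 := hy
    exact TrivSqZeroExt.ext (by simp [hx']) (by simp [hx', hy', op_smul_eq_smul])
  let inlC : ∀ (M : Type u) [AddCommGroup M] [Module A₁ M] [Module A₁ᵐᵒᵖ M] [IsCentralScalar A₁ M],
      CommRingCat.of A₁ ⟶ CommRingCat.of (TrivSqZeroExt A₁ M) := fun M _ _ _ _ ↦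
    CommRingCat.ofHom (TrivSqZeroExt.inlHom A₁ M)
  let algC : CommRingCat.of A ⟶ CommRingCat.of A₁ := CommRingCat.ofHom (algebraMap A A₁)
  have halg : CommRingCat.ofHom (Ideal.Quotient.mk I) ≫ ρ₁ = algC := by
    ext r; exact (IsScalarTower.algebraMap_apply A (A ⧸ I) A₁ r).symm
  have hbase : Spec.map algC ≫ b = Spec.map (f.appLE V U hUV ≫ α) ≫ hV.fromSpec := by
    rw [← halg, Spec.map_comp_assoc, w, Spec.map_comp_assoc,
      IsAffineOpen.SpecMap_appLE_fromSpec f hV hU hUV, reassoc_of% hα]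
  have hcomm : ∀ (M : Type u) [AddCommGroup M] [Module A₁ M] [Module A₁ᵐᵒᵖ M] [IsCentralScalar A₁ M],
      CommRingCat.ofHom (Ideal.Quotient.mk I) ≫ ρ₁ = (algC ≫ inlC M) ≫ fstC M := by
    intro M _ _ _ _
    rw [halg]
    ext r
    rfl
  -- from the thickening to the chart
  let θC : B ⟶ CommRingCat.of (TrivSqZeroExt A₁ P₁) := CommRingCat.ofHom θ
  have hθC : φ ≫ θC = algC ≫ inlC P₁ := CommRingCat.hom_ext (RingHom.ext hθA)
  have hθCfst : θC ≫ fstC P₁ = ρ ≫ ρ₁ := by ext x; exact hθfst x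
  let m : Spec (CommRingCat.of (TrivSqZeroExt A₁ P₁)) ⟶ X := Spec.map θC ≫ z
  have hmf : m ≫ f = Spec.map (algC ≫ inlC P₁) ≫ b := by
    rw [Category.assoc, hzf, ← Spec.map_comp_assoc, hθC]
  have hmfst : Spec.map (fstC P₁) ≫ m = Spec.map ρ₁ ≫ a₀ := by
    rw [← Spec.map_comp_assoc, hθCfst, Spec.map_comp_assoc, hρz]
  have hrm : Set.range m ⊆ U := by
    rintro _ ⟨s, rfl⟩
    obtain ⟨s', rfl⟩ := (FirstNbhd.isHomeomorph_specMap _ (hfst P₁).1 (hfst P₁).2).surjective s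
    rw [← Scheme.Hom.comp_apply, hmfst]
    exact hr₁ ⟨s', rfl⟩
  obtain ⟨γ, hγ'⟩ :=
    Spec.map_surjective (IsOpenImmersion.lift hU.fromSpec m (by rwa [hU.range_fromSpec]))
  have hγ : Spec.map γ ≫ hU.fromSpec = m := by rw [hγ', IsOpenImmersion.lift_fac]
  have hγfst : γ ≫ fstC P₁ = α := by
    refine Spec.map_injective ?_
    rw [← cancel_mono hU.fromSpec, hα, ← hmfst, ← hγ, Spec.map_comp, Category.assoc]
  have hγΛ : f.appLE V U hUV ≫ γ = (f.appLE V U hUV ≫ α) ≫ inlC P₁ := by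
    refine Spec.map_injective ?_
    rw [← cancel_mono hV.fromSpec, Spec.map_comp_assoc, Spec.map_comp_assoc, ← hbase,
      IsAffineOpen.SpecMap_appLE_fromSpec f hV hU hUV, reassoc_of% hγ, hmf, Spec.map_comp_assoc]
  obtain ⟨u₁, hu₁⟩ := RetractFP.exists_derLin (Λ := Γ(Y, V)) (C := Γ(X, U)) γ.hom
    (fun c ↦ congr($(hγfst) c)) fun l ↦ congr($(hγΛ) l)
  -- from the chart to the thickening
  let θ'C : Γ(X, U) ⟶ CommRingCat.of (TrivSqZeroExt A₁ P') := CommRingCat.ofHom θ'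
  have hθ'C : f.appLE V U hUV ≫ θ'C = (f.appLE V U hUV ≫ α) ≫ inlC P' := by
    exact CommRingCat.hom_ext (RingHom.ext hθ'Λ)
  have hθ'Cfst : θ'C ≫ fstC P' = α := by ext x; exact hθ'fst x
  let m' : Spec (CommRingCat.of (TrivSqZeroExt A₁ P')) ⟶ X := Spec.map θ'C ≫ hU.fromSpec
  have hm'f : m' ≫ f = Spec.map (algC ≫ inlC P') ≫ b := by
    rw [Category.assoc, ← IsAffineOpen.SpecMap_appLE_fromSpec f hV hU hUV, ← Spec.map_comp_assoc,
      hθ'C, Spec.map_comp_assoc, Spec.map_comp_assoc algC, hbase]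
  have hm'fst : Spec.map (fstC P') ≫ m' = Spec.map ρ₁ ≫ a₀ := by
    rw [← Spec.map_comp_assoc, hθ'Cfst, hα]
  obtain ⟨ψ, ⟨hψA, hψfst, hψz⟩, -⟩ := huniv _ _ (algC ≫ inlC P') (fstC P') (hfst P').1 (hfst P').2
    ρ₁ (hcomm P') m' hm'f hm'fst
  obtain ⟨v₁, hv₁⟩ := RetractFP.exists_derLin (Λ := A) (C := (B : Type u)) ψ.hom
    (fun c ↦ congr($(hψfst) c)) fun l ↦ congr($(hψA) l)
  let mapu : CommRingCat.of (TrivSqZeroExt A₁ P') ⟶ CommRingCat.of (TrivSqZeroExt A₁ P₁) :=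
    CommRingCat.ofHom (TrivSqZeroExt.map u₁).toRingHom
  let mapv : CommRingCat.of (TrivSqZeroExt A₁ P₁) ⟶ CommRingCat.of (TrivSqZeroExt A₁ P') :=
    CommRingCat.ofHom (TrivSqZeroExt.map v₁).toRingHom
  have h1 : θC ≫ mapv = ψ := by
    refine CommRingCat.hom_ext (RingHom.ext fun c ↦ ?_)
    refine TrivSqZeroExt.ext ((TrivSqZeroExt.fst_map _ _).trans ((hθfst c).trans ?_))
      ((TrivSqZeroExt.snd_map _ _).trans ((congr_arg v₁ (hθsnd c)).trans (hv₁ c)))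
    exact (congr($(hψfst) c)).symm
  have h2 : θ'C ≫ mapu = γ := by
    refine CommRingCat.hom_ext (RingHom.ext fun c ↦ ?_)
    refine TrivSqZeroExt.ext ((TrivSqZeroExt.fst_map _ _).trans ((hθ'fst c).trans ?_))
      ((TrivSqZeroExt.snd_map _ _).trans ((congr_arg u₁ (hθ'snd c)).trans (hu₁ c)))
    exact (congr($(hγfst) c)).symm
  have h3 : γ ≫ mapv = θ'C := by
    refine Spec.map_injective ?_
    rw [← cancel_mono hU.fromSpec, Spec.map_comp_assoc, hγ, ← Spec.map_comp_assoc, h1, hψz]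
  have hvu : v₁ ∘ₗ u₁ = LinearMap.id := RetractFP.ext_D fun c ↦ by
    rw [LinearMap.comp_apply, hu₁, LinearMap.id_apply, ← hθ'snd c]
    exact (TrivSqZeroExt.snd_map v₁ _).symm.trans (congr_arg TrivSqZeroExt.snd congr($(h3) c))
  have h4 : ψ ≫ mapu = θC := by
    refine (huniv _ _ (algC ≫ inlC P₁) (fstC P₁) (hfst P₁).1 (hfst P₁).2 ρ₁ (hcomm P₁) m hmf
      hmfst).unique ⟨?_, ?_, ?_⟩ ⟨hθC, hθCfst, rfl⟩
    · rw [← Category.assoc, hψA]
      exact CommRingCat.hom_ext (RingHom.ext fun r ↦ TrivSqZeroExt.map_inl u₁ _)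
    · rw [Category.assoc, show mapu ≫ fstC P₁ = fstC P' from by
        ext x; exact TrivSqZeroExt.fst_map u₁ x, hψfst]
    · rw [Spec.map_comp_assoc, hψz, ← hγ, ← h2, Spec.map_comp_assoc]
  have huv : u₁ ∘ₗ v₁ = LinearMap.id := RetractFP.ext_D fun c ↦ by
    rw [LinearMap.comp_apply, hv₁, LinearMap.id_apply, ← hθsnd c]
    exact (TrivSqZeroExt.snd_map u₁ _).symm.trans (congr_arg TrivSqZeroExt.snd congr($(h4) c))
  have : Module.FinitePresentation Γ(X, U) Ω[Γ(X, U)⁄Γ(Y, V)] := inferInstance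
  have : Module.FinitePresentation A₁ (A₁ ⊗[Γ(X, U)] Ω[Γ(X, U)⁄Γ(Y, V)]) := inferInstance
  exact Module.FinitePresentation.of_equiv (LinearEquiv.ofLinearMap u₁ v₁ huv hvu)

set_option backward.isDefEq.respectTransparency false in
/-- Local lifts of a morphism locally of finite presentation on a square zero thickening of affine
schemes give a global one. -/
theorem exists_lift_of_local (hI : I ^ 2 = ⊥)
    (w : Spec.map (CommRingCat.ofHom (Ideal.Quotient.mk I)) ≫ b = a₀ ≫ f)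
    (hloc : ∀ p : PrimeSpectrum A, ∃ g ∉ p.asIdeal,
      ∃ m : Spec (CommRingCat.of (Localization.Away g)) ⟶ X,
        m ≫ f = Spec.map (CommRingCat.ofHom (algebraMap A (Localization.Away g))) ≫ b ∧
          Spec.map (CommRingCat.ofHom (Ideal.Quotient.mk (I.map (algebraMap A (Localization.Away g))))) ≫ m =
            Spec.map (CommRingCat.ofHom (Ideal.quotientMap (I.map (algebraMap A (Localization.Away g)))
              (algebraMap A (Localization.Away g)) Ideal.le_comap_map)) ≫ a₀) :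
    ∃ l : Spec (CommRingCat.of A) ⟶ X,
      Spec.map (CommRingCat.ofHom (Ideal.Quotient.mk I)) ≫ l = a₀ ∧ l ≫ f = b := by
  obtain ⟨B, φ, ρ, z, hφρ, hρ, hC, hzf, hρz, huniv⟩ := FirstNbhd.exists_firstNbhd f A I hI a₀ b w
  have hfp := finitePresentation_cotangent f w φ ρ z hφρ hzf hρz huniv
  let _ : Algebra A B := φ.hom.toAlgebra
  let ρA : (B : Type u) →ₐ[A] A ⧸ I := { ρ.hom with commutes' := fun r ↦ congr($(hφρ) r) }
  obtain ⟨r, hr⟩ := RetractFP.exists_retraction hI ρA (fun x y ↦ hC x y) hfp fun p ↦ by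
    obtain ⟨g, hg, m, hm₁, hm₂⟩ := hloc p
    let L := Localization.Away g
    let J : Ideal L := I.map (algebraMap A L)
    have hJ : RingHom.ker (CommRingCat.ofHom (Ideal.Quotient.mk J)).hom ^ 2 = ⊥ := by
      rw [CommRingCat.hom_ofHom, Ideal.mk_ker, ← Ideal.map_pow, hI, Ideal.map_bot]
    obtain ⟨ψ, ⟨hψ, hψq, -⟩, -⟩ := huniv _ _ (CommRingCat.ofHom (algebraMap A L))
      (CommRingCat.ofHom (Ideal.Quotient.mk J)) Ideal.Quotient.mk_surjective hJ
      (CommRingCat.ofHom (Ideal.quotientMap J (algebraMap A L) Ideal.le_comap_map))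
      (by ext y; rfl) m hm₁ hm₂
    refine ⟨g, hg, { ψ.hom with commutes' := fun r ↦ congr($(hψ) r) }, fun x hx ↦ ?_⟩
    refine Ideal.Quotient.eq_zero_iff_mem.mp ((congr($(hψq) x)).trans ?_)
    change Ideal.quotientMap J (algebraMap A L) Ideal.le_comap_map (ρA x) = 0
    rw [hx, map_zero]
  let rC : B ⟶ CommRingCat.of A := CommRingCat.ofHom r.toRingHom
  have hrρ : rC ≫ CommRingCat.ofHom (Ideal.Quotient.mk I) = ρ := by ext x; exact hr x
  have hφr : φ ≫ rC = 𝟙 _ := by ext x; exact r.commutes x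
  refine ⟨Spec.map rC ≫ z, ?_, ?_⟩
  · rw [← Spec.map_comp_assoc, hrρ, hρz]
  · rw [Category.assoc, hzf, ← Spec.map_comp_assoc, hφr, Spec.map_id, Category.id_comp]

end Groth.Agent.InfLift.LocalLift
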